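import Cfsg.Agent.Lib.Perm.TwiceP.Module

/-!
The two cases of Wielandt's argument in degree `2p`.
-/

set_option autoImplicit false
set_option linter.style.haveILetI false
set_option linter.unusedSectionVars false

namespace Cfsg.Agent.TwiceP

open Equiv MulAction Finset

open scoped Classical Pointwise

universe u

variable {α : Type u} [Fintype α] [DecidableEq α] {G : Subgroup (Perm α)} (a₀ : α)

theorem two_trans_of_orbit [IsPretransitive G α] {b : α}
    (h : ∀ z, z ≠ a₀ → z ∈ orbit (stabilizer G a₀) b) : IsMultiplyPretransitive G α 2 := by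
  rw [is_two_pretransitive_iff]
  have key : ∀ x y : α, x ≠ y → ∃ g : G, g • a₀ = x ∧ g • b = y := by
    intro x y hxy
    obtain ⟨g, rfl⟩ := exists_smul_eq G a₀ x
    obtain ⟨s, hs⟩ := h (g⁻¹ • y) fun e => hxy (by rw [← e, smul_inv_smul])
    refine ⟨g * (s : G), ?_, ?_⟩
    · rw [mul_smul]; exact congrArg (g • ·) s.2
    · rw [mul_smul, show (s : G) • b = g⁻¹ • y from hs, smul_inv_smul]
  intro a b' c d hab hcd
  obtain ⟨g, h1, h2⟩ := key a b' hab
  obtain ⟨k, h3, h4⟩ := key c d hcd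
  exact ⟨k * g⁻¹, by rw [mul_smul, ← h1, inv_smul_smul, h3], by
    rw [mul_smul, ← h2, inv_smul_smul, h4]⟩

variable {p : ℕ} [hp : Fact p.Prime] (C : Coord G p) [hG : IsPreprimitive G α]

/-- Representatives of the nontrivial suborbits. -/
noncomputable def reps (G : Subgroup (Perm α)) (a₀ : α) : Finset α :=
  univ.filter fun y => y ≠ a₀ ∧
    (Quotient.mk (orbitRel (stabilizer G a₀) α) y).out = y

theorem reps_spec {y : α} (hy : y ≠ a₀) :
    ∃! b, b ∈ reps G a₀ ∧ y ∈ orbit (stabilizer G a₀) b := by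
  let q : α → Quotient (orbitRel (stabilizer G a₀) α) := Quotient.mk _
  have hrel : ∀ u v, q u = q v ↔ u ∈ orbit (stabilizer G a₀) v := fun u v => by
    rw [Quotient.eq, orbitRel_apply]
  have hby : y ∈ orbit (stabilizer G a₀) (q y).out :=
    (hrel _ _).1 (Quotient.out_eq (q y)).symm
  refine ⟨(q y).out, ⟨?_, hby⟩, ?_⟩
  · simp only [reps, Finset.mem_filter, Finset.mem_univ, true_and]
    refine ⟨fun e => ?_, by rw [Quotient.out_eq]⟩
    rw [e] at hby
    obtain ⟨s, rfl⟩ := hby
    exact hy s.2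
  · rintro c ⟨hc, hyc⟩
    simp only [reps, Finset.mem_filter, Finset.mem_univ, true_and] at hc
    rw [← hc.2]
    exact congrArg Quotient.out ((hrel _ _).2 hyc).symm

theorem reps_ne {b : α} (hb : b ∈ reps G a₀) : b ≠ a₀ := by
  simp only [reps, Finset.mem_filter, Finset.mem_univ, true_and] at hb
  exact hb.1

theorem card_quotient : Nat.card (orbitRel.Quotient (stabilizer G a₀) α) = (reps G a₀).card + 1 := by
  let Q := Quotient (orbitRel (stabilizer G a₀) α)
  have hna : a₀ ∉ reps G a₀ := fun h => reps_ne a₀ h rfl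
  have hout : (Quotient.mk (orbitRel (stabilizer G a₀) α) a₀).out = a₀ := by
    have h1 : (Quotient.mk (orbitRel (stabilizer G a₀) α) a₀).out ∈ orbit (stabilizer G a₀) a₀ :=
      (Quotient.mk_out (s := orbitRel (stabilizer G a₀) α) a₀ :)
    obtain ⟨s, hs⟩ := h1
    rw [← hs]
    exact s.2
  have himg : (univ : Finset Q).image Quotient.out = insert a₀ (reps G a₀) := by
    ext y
    simp only [Finset.mem_image, Finset.mem_univ, true_and, Finset.mem_insert, reps,
      Finset.mem_filter]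
    constructor
    · rintro ⟨q, rfl⟩
      by_cases h : q.out = a₀
      · exact Or.inl h
      · exact Or.inr ⟨h, by rw [Quotient.out_eq]⟩
    · rintro (rfl | ⟨-, h⟩)
      · exact ⟨_, hout⟩
      · exact ⟨_, h⟩
  rw [← Finset.card_insert_of_notMem hna, ← himg,
    Finset.card_image_of_injective _ Quotient.out_injective, Finset.card_univ,
    ← Nat.card_eq_fintype_card]

theorem reps_card_ne_one (hnt : ¬ IsMultiplyPretransitive G α 2) : (reps G a₀).card ≠ 1 := by
  intro h
  obtain ⟨b, hb⟩ := Finset.card_eq_one.1 h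
  refine hnt (two_trans_of_orbit a₀ (b := b) fun z hz => ?_)
  obtain ⟨c, ⟨hc, hzc⟩, -⟩ := reps_spec a₀ (G := G) hz
  rw [hb, Finset.mem_singleton] at hc
  exact hc ▸ hzc

theorem num_congr {b y : α} (h : y ∈ orbit (stabilizer G a₀) b) (d : ZMod p) :
    num a₀ C y d = num a₀ C b d := by
  unfold num
  rw [orb_eq_of_mem a₀ h]

include a₀ in
/-- All translates being proportional is the only possibility. -/
theorem prop2_of_not_two_trans (hα : Fintype.card α = 2 * p)
    (hnt : ¬ IsMultiplyPretransitive G α 2) : Prop2 C := by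
  refine (prop2_or C).resolve_right ?_
  rintro ⟨h, h', hdet⟩
  have hp2 := hp.out.two_le
  obtain ⟨b, hb⟩ := Fintype.exists_ne_of_one_lt_card (by omega) a₀
  set F := orb G a₀ b
  have hF : GInv G F := orb_inv a₀ b
  have hd := hdet 1 one_ne_zero
  have e1 := C.left_eq hF h 0 1
  have e2 := C.left_eq hF h' 0 1
  have h00 : C.fh F 0 0 1 = C.sg F := by
    refine sub_eq_zero.1 ((mul_eq_zero.1 ?_).resolve_right hd)
    linear_combination C.U h' 1 1 * e1 - C.U h 1 1 * e2
  have h10 : C.fh F 1 0 1 = 0 := by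
    refine (mul_eq_zero.1 ?_).resolve_right hd
    linear_combination C.U h 0 1 * e2 - C.U h' 0 1 * e1
  have c00 := const_of_ft_eq_zero (c := fun d => C.blk F 0 0 d - if d = 0 then C.sg F else 0)
    one_ne_zero (by rw [ft_sub, ft_single]; exact sub_eq_zero.2 h00)
  have c10 := const_of_ft_eq_zero (c := C.blk F 1 0) one_ne_zero h10
  have hz : C.blk F 0 0 0 = 0 := orb_diag a₀ hb _
  simp only [hz, ↓reduceIte] at c00
  have t00 : C.tot F 0 0 = -C.sg F * (p - 1) := by
    have := Finset.sum_congr rfl fun d (_ : d ∈ (univ : Finset (ZMod p))) => c00 d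
    simp only [Finset.sum_sub_distrib, Finset.sum_ite_eq', Finset.mem_univ, if_true,
      Finset.sum_const, Finset.card_univ, ZMod.card, nsmul_eq_mul] at this
    rw [Coord.tot]
    linear_combination this
  have t01 : C.tot F 0 1 = p * C.blk F 1 0 0 := by
    rw [← (C.tot_sym hF).2, Coord.tot, Finset.sum_congr rfl fun d _ => c10 d]
    simp
  have hs : C.sg F = C.tot F 0 0 - C.tot F 0 1 := rfl
  have hx : C.blk F 1 0 0 = -C.sg F := by
    refine mul_left_cancel₀ (Nat.cast_ne_zero.2 hp.out.ne_zero : (p : ℤ) ≠ 0) ?_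
    rw [t00, t01] at hs
    linear_combination hs
  have hk : (Nat.card (orbit (stabilizer G a₀) b) : ℤ) = -C.sg F * (2 * p - 1) := by
    rw [← row_orb, C.row_sum hF, t00, t01, hx]
    ring
  have h2 := two_le_orbit a₀ (G := G) (p := p) hα hb
  have hbk : C.blk F 1 0 0 = 0 ∨ C.blk F 1 0 0 = 1 := orb_zero_one a₀ b _ _
  rcases hbk with e | e
  · rw [e, eq_comm, neg_eq_zero] at hx
    rw [hx] at hk
    simp only [neg_zero, zero_mul, Nat.cast_eq_zero] at hk
    omega
  · rw [e] at hx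
    rw [show C.sg F = -1 by omega] at hk
    refine hnt (two_trans_of_orbit a₀ (b := b) fun z hz' => ?_)
    have hsub : orbit (stabilizer G a₀) b ⊆ ({a₀}ᶜ : Set α) := by
      rintro _ ⟨s, rfl⟩ e'
      refine hb (smul_left_cancel (s : G) ?_)
      exact e'.trans s.2.symm
    have hc : ({a₀}ᶜ : Set α).ncard ≤ (orbit (stabilizer G a₀) b).ncard := by
      rw [Set.ncard_compl, Set.ncard_singleton, Nat.card_eq_fintype_card, hα,
        ← Nat.card_coe_set_eq]
      omega
    rw [Set.eq_of_subset_of_ncard_le hsub hc]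
    exact hz'

/-- No orbital has all its numbers zero. -/
theorem num_pos (hα : Fintype.card α = 2 * p) (h0 : G)
    (hd : C.U h0 0 (-1) * C.U h0 0 1 + C.U h0 1 (-1) * C.U h0 1 1 ≠ 0) {b : α} (hb : b ≠ a₀) :
    ∃ u : (ZMod p)ˣ, num a₀ C b u ≠ 0 := by
  by_contra hcon
  push Not at hcon
  obtain ⟨i1, i2⟩ := num_identities a₀ C h0 hd hb
  simp only [hcon, ne_eq, OfNat.ofNat_ne_zero, not_false_eq_true, zero_pow,
    Finset.sum_const_zero, zero_add] at i1 i2
  have h2 : (2 : ℤ) ≤ Nat.card (orbit (stabilizer G a₀) b) :=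
    Nat.ofNat_le_cast.2 (two_le_orbit a₀ (G := G) (p := p) hα hb)
  nlinarith

theorem sum_units_two {H : Subgroup (ZMod p)ˣ} (hH : H.index = 2) (φ : (ZMod p)ˣ → ℤ) (v w : ℤ)
    (hv : ∀ u ∈ H, φ u = v) (hw : ∀ u, u ∉ H → φ u = w) :
    ∑ u, φ u = (Nat.card H : ℤ) * (v + w) := by
  rw [Finset.sum_congr rfl fun u _ => (show φ u = if u ∈ H then v else w by
    split_ifs with h
    · exact hv u h
    · exact hw u h), Finset.sum_ite, Finset.sum_const, Finset.sum_const]
  have h1 : (univ.filter fun u => u ∈ H).card = Nat.card H := by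
    rw [Nat.card_eq_fintype_card, Fintype.card_subtype]
  have h2 := Finset.card_filter_add_card_filter_not (s := (univ : Finset (ZMod p)ˣ))
    (fun u => u ∈ H)
  have h3 := Subgroup.card_mul_index H
  rw [hH, Nat.card_eq_fintype_card (α := (ZMod p)ˣ), ← Finset.card_univ] at h3
  rw [h1] at h2
  simp only [h1, nsmul_eq_mul, show (univ.filter fun u => ¬ u ∈ H).card = Nat.card H by omega]
  ring

/-- With two suborbits, the second eigenvalue is an integer. -/
theorem num_const_of_two {h0 : G} (hd : C.U h0 0 1 ≠ 0 ∨ C.U h0 1 1 ≠ 0)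
    {b c : α} (hR : reps G a₀ = {b, c}) {d : ZMod p} (hd0 : d ≠ 0) :
    num a₀ C b d = num a₀ C b 1 := by
  have hb : b ≠ a₀ := reps_ne a₀ (by rw [hR]; simp)
  set F := orb G a₀ b with hFdef
  have hF : GInv G F := orb_inv a₀ b
  let F2 : α → α → ℤ := fun x y => ∑ z, F x z * F z y
  have hF2 : GInv G F2 := by
    intro g x y
    show ∑ z, _ = ∑ z, _
    rw [← Equiv.sum_comp (g : Perm α)]
    exact Finset.sum_congr rfl fun z _ => by rw [hF g x z, hF g z y]
  set γ := F2 a₀ c
  set A := F2 a₀ a₀ - γ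
  set B := F2 a₀ b - γ
  have hconst : ∀ y z, y ∈ orbit (stabilizer G a₀) z → F2 a₀ y = F2 a₀ z := by
    rintro _ z ⟨s, rfl⟩
    have := hF2 (s : G) a₀ z
    rwa [show ((s : G) : Perm α) a₀ = a₀ from s.2] at this
  have hid : ∀ x y, F2 x y = γ + (if x = y then A else 0) + B * F x y := by
    refine ginv_ext a₀ hF2 ?_ fun y => ?_
    · intro g x y
      simp only [hF g x y, EmbeddingLike.apply_eq_iff_eq]
    · rcases eq_or_ne y a₀ with rfl | hy
      · simp [A, hFdef, orb_diag y hb y]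
      · rw [if_neg (Ne.symm hy), hFdef, orb_apply_a₀]
        obtain ⟨r, ⟨hr, hyr⟩, hu⟩ := reps_spec a₀ (G := G) hy
        rw [hR, Finset.mem_insert, Finset.mem_singleton] at hr
        by_cases hyb : y ∈ orbit (stabilizer G a₀) b
        · rw [if_pos hyb, hconst y b hyb]
          simp [B]
        · rw [if_neg hyb]
          rcases hr with rfl | rfl
          · exact absurd hyr hyb
          · rw [hconst y r hyr]
            simp [γ]
  have hroot : ∀ (v : α → ℂ) (μ : ℂ), ∑ y, v y = 0 → (∃ x, v x ≠ 0) →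
      (∀ x, ∑ y, (F x y : ℂ) * v y = μ * v x) → μ * μ = A + B * μ := by
    intro v μ hv ⟨x, hx⟩ hFv
    have h1 : ∑ y, (F2 x y : ℂ) * v y = μ * μ * v x := by
      simp only [F2, Int.cast_sum, Int.cast_mul, Finset.sum_mul]
      rw [Finset.sum_comm]
      simp only [mul_assoc, ← Finset.mul_sum, hFv, mul_left_comm _ μ]
    have h2 : ∑ y, (F2 x y : ℂ) * v y = (A + B * μ) * v x := by
      simp only [hid, Int.cast_add, Int.cast_mul, Int.cast_ite, Int.cast_zero, add_mul,
        Finset.sum_add_distrib, ite_mul, zero_mul, Finset.sum_ite_eq, Finset.mem_univ, if_true,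
        mul_assoc, ← Finset.mul_sum, hv, mul_zero, zero_add, hFv]
    exact mul_right_cancel₀ hx (h1.symm.trans h2)
  have r1 : C.lam F 1 * C.lam F 1 = A + B * C.lam F 1 := by
    refine hroot (vec C h0 1) _ (sum_vec C h0 one_ne_zero) ?_ (kernel_vec C hF h0 1)
    rcases hd with e | e
    · exact ⟨C.E (0, 1), by simpa [vec_apply, AddChar.map_zero_eq_one] using e⟩
    · exact ⟨C.E (0, 0), by simpa [vec_apply, AddChar.map_zero_eq_one] using e⟩
  have r2 : (C.sg F : ℂ) * C.sg F = A + B * C.sg F := by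
    refine hroot (fun y => (C.uv h0 y : ℂ)) _ ?_ ⟨a₀, ?_⟩ fun x => ?_
    · rw [← Int.cast_sum]
      have : ∑ y, C.uv h0 y = 0 := by
        unfold Coord.uv
        rw [Equiv.sum_comp ((h0 : Perm α)⁻¹) C.wv, C.sum_eq]
        simp [C.wv_apply]
      rw [this, Int.cast_zero]
    · unfold Coord.uv Coord.wv
      split_ifs <;> simp
    · have := congrArg (Int.cast : ℤ → ℂ) (C.apply_uv hF h0 x)
      push_cast at this
      exact this
  obtain ⟨L, hL⟩ : ∃ L : ℤ, C.lam F 1 = L := by
    have h3 : (C.lam F 1 - C.sg F) * (C.lam F 1 - (B - C.sg F : ℤ)) = 0 := by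
      push_cast
      linear_combination r1 - r2
    rcases mul_eq_zero.1 h3 with e | e <;> exact ⟨_, sub_eq_zero.1 e⟩
  have h4 := fun e => const_of_ft_eq_zero
    (c := fun d => C.hf F d - if d = 0 then L else 0) one_ne_zero
    (by rw [ft_sub, ft_single]; exact sub_eq_zero.2 hL) e
  have h5 := (h4 d).trans (h4 1).symm
  simpa [hd0, F, hf_orb a₀ C hb] using h5

/-- The numbers are constant on the units. -/
theorem index_eq_one (hα : Fintype.card α = 2 * p) (h2 : p ≠ 2) (hsq : ¬ p ^ 2 ∣ Nat.card G)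
    (hnt : ¬ IsMultiplyPretransitive G α 2) {h0 : G} (hd : C.U h0 0 1 ≠ 0 ∨ C.U h0 1 1 ≠ 0)
    (hP : Prop2 C) : (fixU a₀ C).index = 1 := by
  have hle := index_le_two a₀ C hα h2 hsq hd hP
  have hpos : (fixU a₀ C).index ≠ 0 := Subgroup.index_ne_zero_of_finite
  by_contra hne
  have hi : (fixU a₀ C).index = 2 := by omega
  obtain ⟨x, hx⟩ : ∃ x, x ∉ fixU a₀ C := by
    by_contra hcon
    push Not at hcon
    exact hne (Subgroup.index_eq_one.2 (eq_top_iff.2 fun x _ => hcon x))
  have hd' := dot_ne_zero C hd one_ne_zero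
  have hval : ∀ b, b ≠ a₀ → ∀ u : (ZMod p)ˣ,
      (u ∈ fixU a₀ C → num a₀ C b u = num a₀ C b 1) ∧
      (u ∉ fixU a₀ C → num a₀ C b u = num a₀ C b x) := by
    intro b hb u
    constructor
    · intro hu
      rw [← mul_one (u : ZMod p)]
      exact hu b hb 1 one_ne_zero
    · intro hu
      have hm : u * x⁻¹ ∈ fixU a₀ C := by
        rw [Subgroup.mul_mem_iff_of_index_two hi, inv_mem_iff]
        exact iff_of_false hu hx
      rw [← hm b hb x x.ne_zero, ← Units.val_mul, inv_mul_cancel_right]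
  have hsum1 : ∀ b, b ≠ a₀ → 1 ≤ num a₀ C b 1 + num a₀ C b x := by
    intro b hb
    obtain ⟨u, hu⟩ := num_pos a₀ C hα h0 hd' hb
    have := num_nonneg a₀ C b 1
    have := num_nonneg a₀ C b (x : ZMod p)
    have := num_nonneg a₀ C b (u : ZMod p)
    by_cases hm : u ∈ fixU a₀ C
    · rw [(hval b hb u).1 hm] at hu; omega
    · rw [(hval b hb u).2 hm] at hu; omega
  have s1 := sum_num a₀ C one_ne_zero (reps G a₀) fun y hy => reps_spec a₀ hy
  have sx := sum_num a₀ C x.ne_zero (reps G a₀) fun y hy => reps_spec a₀ hy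
  by_cases h3 : 3 ≤ (reps G a₀).card
  · obtain ⟨b, hbR, hb1⟩ : ∃ b ∈ reps G a₀, num a₀ C b 1 + num a₀ C b x ≤ 1 := by
      by_contra hcon
      push Not at hcon
      have := Finset.card_nsmul_le_sum (reps G a₀)
        (fun b => num a₀ C b 1 + num a₀ C b x) 2 fun b hb => by
          have := hcon b hb
          omega
      rw [Finset.sum_add_distrib, s1, sx, nsmul_eq_mul] at this
      omega
    have hb := reps_ne a₀ hbR
    have hb1' := hsum1 b hb
    have n1 := num_nonneg a₀ C b 1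
    have nx := num_nonneg a₀ C b (x : ZMod p)
    obtain ⟨i1, i2⟩ := num_identities a₀ C h0 hd' hb
    rw [sum_units_two hi (fun u => num a₀ C b u) _ _ (fun u => (hval b hb u).1)
      (fun u => (hval b hb u).2)] at i1
    rw [sum_units_two hi (fun u => num a₀ C b u ^ 2) (num a₀ C b 1 ^ 2) (num a₀ C b x ^ 2)
      (fun u hu => by rw [(hval b hb u).1 hu]) (fun u hu => by rw [(hval b hb u).2 hu]),
      show num a₀ C b 1 ^ 2 + num a₀ C b x ^ 2 = 1 by
        rcases (show num a₀ C b 1 = 0 ∧ num a₀ C b x = 1 ∨ num a₀ C b 1 = 1 ∧ num a₀ C b x = 0 by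
          omega) with ⟨e, e'⟩ | ⟨e, e'⟩ <;> simp [e, e']] at i2
    rw [show num a₀ C b 1 + num a₀ C b x = 1 by omega] at i1
    have hcard := Subgroup.card_mul_index (fixU a₀ C)
    rw [hi, Nat.card_eq_fintype_card (α := (ZMod p)ˣ), ZMod.card_units] at hcard
    have hp1 := hp.out.one_le
    have hcard' : (Nat.card (fixU a₀ C) : ℤ) * 2 = (p : ℤ) - 1 := by
      rw [← Nat.cast_one, ← Nat.cast_sub hp1, ← hcard]; push_cast; ring
    set s := C.sg (orb G a₀ b)
    have hsq' : (p : ℤ) = (2 * s + 1) * (2 * s + 1) := by linarith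
    have hsq2 : p = (2 * s + 1).natAbs * (2 * s + 1).natAbs := by
      rw [← Int.natAbs_mul, ← hsq']; rfl
    have := hp.out.two_le
    rcases hp.out.eq_one_or_self_of_dvd _ (Dvd.intro _ hsq2.symm) with e | e <;> rw [e] at hsq2 <;> nlinarith
  · have hc2 : (reps G a₀).card = 2 := by
      have := reps_card_ne_one a₀ hnt
      have : (reps G a₀).card ≠ 0 := fun e => by
        rw [Finset.card_eq_zero.1 e] at s1
        simp at s1
      omega
    obtain ⟨b, c, hbc, hR⟩ := Finset.card_eq_two.1 hc2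
    refine hx fun y hy d hd0 => ?_
    have hxd : (x : ZMod p) * d ≠ 0 := mul_ne_zero x.ne_zero hd0
    obtain ⟨r, ⟨hr, hyr⟩, -⟩ := reps_spec a₀ (G := G) hy
    rw [num_congr a₀ C hyr, num_congr a₀ C hyr]
    rw [hR, Finset.mem_insert, Finset.mem_singleton] at hr
    rcases hr with rfl | rfl
    · rw [num_const_of_two a₀ C hd hR hxd, num_const_of_two a₀ C hd hR hd0]
    · have hR' : reps G a₀ = {r, b} := hR.trans (Finset.pair_comm b r)
      rw [num_const_of_two a₀ C hd hR' hxd, num_const_of_two a₀ C hd hR' hd0]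

include C in
/-- Rank three and the parameters. -/
theorem rank_three (hα : Fintype.card α = 2 * p) (h2 : p ≠ 2) (hsq : ¬ p ^ 2 ∣ Nat.card G)
    (hnt : ¬ IsMultiplyPretransitive G α 2) :
    (reps G a₀).card = 2 ∧ ∃ a : ℕ, 0 < a ∧ p = 2 * a ^ 2 + 2 * a + 1 ∧ ∀ b : α, b ≠ a₀ →
      Nat.card (orbit (stabilizer G a₀) b) = a * (2 * a + 1) ∨
        Nat.card (orbit (stabilizer G a₀) b) = (a + 1) * (2 * a + 1) := by
  have hP := prop2_of_not_two_trans a₀ C hα hnt
  obtain ⟨h0, hd⟩ := exists_nondeg C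
  have hi := index_eq_one a₀ C hα h2 hsq hnt hd hP
  rw [Subgroup.index_eq_one] at hi
  have hd' := dot_ne_zero C hd one_ne_zero
  have hval : ∀ b, b ≠ a₀ → ∀ u : (ZMod p)ˣ, num a₀ C b u = num a₀ C b 1 := by
    intro b hb u
    rw [← mul_one (u : ZMod p)]
    exact (hi ▸ Subgroup.mem_top u : u ∈ fixU a₀ C) b hb 1 one_ne_zero
  have hone : ∀ b, b ≠ a₀ → 1 ≤ num a₀ C b 1 := by
    intro b hb
    obtain ⟨u, hu⟩ := num_pos a₀ C hα h0 hd' hb
    have := num_nonneg a₀ C b 1
    rw [hval b hb u] at hu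
    omega
  have s1 := sum_num a₀ C one_ne_zero (reps G a₀) fun y hy => reps_spec a₀ hy
  have hc2 : (reps G a₀).card = 2 := by
    have h := Finset.card_nsmul_le_sum (reps G a₀) (fun b => num a₀ C b 1) 1
      fun b hb => hone b (reps_ne a₀ hb)
    rw [s1, nsmul_eq_mul, mul_one] at h
    have := reps_card_ne_one a₀ hnt
    have : (reps G a₀).card ≠ 0 := fun e => by
      rw [Finset.card_eq_zero.1 e] at s1
      simp at s1
    omega
  refine ⟨hc2, ?_⟩
  obtain ⟨b1, b2, hne, hR⟩ := Finset.card_eq_two.1 hc2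
  rw [hR, Finset.sum_pair hne] at s1
  have m1 := hone b1 (reps_ne a₀ (by rw [hR]; simp))
  have m2 := hone b2 (reps_ne a₀ (by rw [hR]; simp))
  have hper : ∀ y, y ≠ a₀ → ∃ a : ℕ, 0 < a ∧ p = 2 * a ^ 2 + 2 * a + 1 ∧
      (Nat.card (orbit (stabilizer G a₀) y) = a * (2 * a + 1) ∨
        Nat.card (orbit (stabilizer G a₀) y) = (a + 1) * (2 * a + 1)) := by
    intro y hy
    have hny : num a₀ C y 1 = 1 := by
      obtain ⟨r, ⟨hr, hyr⟩, -⟩ := reps_spec a₀ (G := G) hy
      rw [num_congr a₀ C hyr]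
      rw [hR, Finset.mem_insert, Finset.mem_singleton] at hr
      rcases hr with rfl | rfl <;> omega
    obtain ⟨i1, i2⟩ := num_identities a₀ C h0 hd' hy
    simp only [hval y hy, hny, one_pow, Finset.sum_const, Finset.card_univ, ZMod.card_units,
      nsmul_eq_mul, mul_one] at i1 i2
    have hp1 := hp.out.one_le
    rw [Nat.cast_sub hp1, Nat.cast_one] at i1 i2
    set s := C.sg (orb G a₀ y)
    set k := Nat.card (orbit (stabilizer G a₀) y)
    have hp' : (p : ℤ) = 2 * s ^ 2 + 2 * s + 1 := by linarith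
    have hk : (k : ℤ) = 2 * s ^ 2 + s := by linarith
    have hs0 : s ≠ 0 ∧ s ≠ -1 := by
      constructor <;> intro e <;> rw [e] at hp' <;> norm_num at hp' <;> exact hp.out.ne_one hp'
    rcases Int.eq_nat_or_neg s with ⟨n, hn | hn⟩
    · refine ⟨n, by omega, ?_, Or.inl ?_⟩
      · rw [hn] at hp'; exact_mod_cast hp'
      · rw [hn] at hk
        have : (k : ℤ) = ((n * (2 * n + 1) : ℕ) : ℤ) := by rw [hk]; push_cast; ring
        exact_mod_cast this
    · obtain ⟨m, rfl⟩ : ∃ m, n = m + 1 := Nat.exists_eq_succ_of_ne_zero (by omega)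
      rw [hn] at hp' hk
      push_cast at hp' hk
      refine ⟨m, by omega, ?_, Or.inr ?_⟩
      · have : (p : ℤ) = ((2 * m ^ 2 + 2 * m + 1 : ℕ) : ℤ) := by rw [hp']; push_cast; ring
        exact_mod_cast this
      · have : (k : ℤ) = (((m + 1) * (2 * m + 1) : ℕ) : ℤ) := by rw [hk]; push_cast; ring
        exact_mod_cast this
  obtain ⟨a, ha, hpa, -⟩ := hper b1 (reps_ne a₀ (by rw [hR]; simp))
  refine ⟨a, ha, hpa, fun y hy => ?_⟩
  obtain ⟨a', -, hpa', h⟩ := hper y hy
  obtain rfl : a' = a := by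
    rcases lt_trichotomy a' a with hlt | heq | hgt
    · nlinarith
    · exact heq
    · nlinarith
  exact h

end Cfsg.Agent.TwiceP
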