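import Mathlib.Analysis.SpecialFunctions.Complex.CircleAddChar
import Mathlib.NumberTheory.LegendreSymbol.AddCharacter
import Mathlib.RingTheory.Polynomial.Cyclotomic.Roots
import Mathlib.Analysis.RCLike.Basic

/-!
Integer functions on `ZMod p` and their transforms.
-/

set_option autoImplicit false
set_option linter.unusedSectionVars false

namespace Cfsg.Agent.TwiceP

open Finset Polynomial

variable {p : ℕ} [hp : Fact p.Prime]

/-- The standard character. -/
noncomputable def chi : AddChar (ZMod p) ℂ := ZMod.stdAddChar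

theorem chi_sum {j : ZMod p} (hj : j ≠ 0) : ∑ i : ZMod p, chi (j * i) = 0 := by
  have h := AddChar.sum_eq_zero_of_ne_one (ZMod.isPrimitive_stdAddChar p hj)
  simpa [AddChar.mulShift_apply, chi] using h

theorem chi_sum_all (i : ZMod p) :
    ∑ j : ZMod p, chi (j * i) = if i = 0 then (p : ℂ) else 0 := by
  split_ifs with h
  · subst h
    simp [AddChar.map_zero_eq_one]
  · rw [← chi_sum h]
    exact Finset.sum_congr rfl fun j _ => by rw [mul_comm]

theorem chi_conj (x : ZMod p) : (starRingEnd ℂ) (chi x) = chi (-x) :=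
  (AddChar.map_neg_eq_conj _ x).symm

theorem chi_ne_zero (x : ZMod p) : chi x ≠ 0 := fun h => by
  have h1 : chi (x + -x) = (1 : ℂ) := by rw [add_neg_cancel]; exact AddChar.map_zero_eq_one _
  rw [AddChar.map_add_eq_mul, h, zero_mul] at h1
  exact zero_ne_one h1

theorem chi_one_ne : chi (1 : ZMod p) ≠ 1 := fun h => by
  have h2 : ∀ d : ZMod p, chi d = 1 := fun d => by
    rw [← ZMod.natCast_zmod_val d, ← nsmul_one, AddChar.map_nsmul_eq_pow, h, one_pow]
  have h1 := chi_sum (p := p) (j := 1) one_ne_zero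
  simp only [h2, Finset.sum_const, Finset.card_univ, ZMod.card, nsmul_eq_mul, mul_one,
    Nat.cast_eq_zero] at h1
  exact hp.out.ne_zero h1

/-- The transform of an integer function. -/
noncomputable def ft (c : ZMod p → ℤ) (j : ZMod p) : ℂ := ∑ d, (c d : ℂ) * chi (j * d)

theorem ft_zero (c : ZMod p → ℤ) : ft c 0 = ((∑ d, c d : ℤ) : ℂ) := by
  simp [ft, AddChar.map_zero_eq_one]

theorem ft_const (m : ℤ) {j : ZMod p} (hj : j ≠ 0) : ft (fun _ => m) j = 0 := by
  rw [ft, ← Finset.mul_sum, chi_sum hj, mul_zero]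

theorem ft_single (m : ℤ) (j : ZMod p) : ft (fun d => if d = 0 then m else 0) j = m := by
  rw [ft, Finset.sum_eq_single 0] <;> simp +contextual [AddChar.map_zero_eq_one]

theorem ft_add (a b : ZMod p → ℤ) (j : ZMod p) : ft (fun d => a d + b d) j = ft a j + ft b j := by
  simp only [ft, Int.cast_add, add_mul, Finset.sum_add_distrib]

theorem ft_sub (a b : ZMod p → ℤ) (j : ZMod p) : ft (fun d => a d - b d) j = ft a j - ft b j := by
  simp only [ft, Int.cast_sub, sub_mul, Finset.sum_sub_distrib]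

theorem ft_rev (a : ZMod p → ℤ) (j : ZMod p) : ft (fun d => a (-d)) j = ft a (-j) := by
  rw [ft, ft, ← Equiv.sum_comp (Equiv.neg (ZMod p))]
  simp

/-- Convolution. -/
def conv (a b : ZMod p → ℤ) : ZMod p → ℤ := fun m => ∑ i, a i * b (m - i)

theorem ft_conv (a b : ZMod p → ℤ) (j : ZMod p) : ft (conv a b) j = ft a j * ft b j := by
  simp only [ft, conv, Int.cast_sum, Int.cast_mul, Finset.sum_mul]
  rw [Finset.sum_comm]
  refine Finset.sum_congr rfl fun i _ => ?_
  rw [Finset.mul_sum, ← Equiv.sum_comp (Equiv.addRight i)]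
  refine Finset.sum_congr rfl fun k _ => ?_
  simp only [Equiv.coe_addRight, add_sub_cancel_right, mul_add, AddChar.map_add_eq_mul]
  ring

theorem sum_conv (a b : ZMod p → ℤ) : ∑ m, conv a b m = (∑ i, a i) * ∑ i, b i := by
  simp only [conv]
  rw [Finset.sum_comm, Finset.sum_mul]
  refine Finset.sum_congr rfl fun i _ => ?_
  rw [Finset.mul_sum, ← Equiv.sum_comp (Equiv.addRight i)]
  simp

/-- An integer function with one vanishing nontrivial transform is constant. -/
theorem const_of_ft_eq_zero {c : ZMod p → ℤ} {j : ZMod p} (hj : j ≠ 0) (h : ft c j = 0)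
    (d : ZMod p) : c d = c 0 := by
  let ζ : ℂ := chi (1 : ZMod p)
  have hpow : ∀ d : ZMod p, chi d = ζ ^ d.val := fun d => by
    rw [← AddChar.map_nsmul_eq_pow, nsmul_one, ZMod.natCast_zmod_val]
  have hprim : IsPrimitiveRoot ζ p := by
    have ho : orderOf ζ = p := by
      refine orderOf_eq_prime ?_ chi_one_ne
      rw [← AddChar.map_nsmul_eq_pow, nsmul_one, ZMod.natCast_self, AddChar.map_zero_eq_one]
    exact ho ▸ IsPrimitiveRoot.orderOf ζ
  let c' : ℕ → ℚ := fun i => (c (j⁻¹ * (i : ZMod p)) : ℚ)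
  let Q : ℚ[X] := ∑ i ∈ Finset.range p, C (c' i) * X ^ i
  have hQ : aeval ζ Q = 0 := by
    rw [map_sum, ← h, ft]
    refine Finset.sum_bij (fun i _ => j⁻¹ * (i : ZMod p)) (fun _ _ => Finset.mem_univ _) ?_ ?_ ?_
    · intro a ha b hb hab
      have := mul_left_cancel₀ (inv_ne_zero hj) hab
      rw [ZMod.natCast_eq_natCast_iff', Nat.mod_eq_of_lt (Finset.mem_range.1 ha),
        Nat.mod_eq_of_lt (Finset.mem_range.1 hb)] at this
      exact this
    · intro d _
      exact ⟨(j * d).val, Finset.mem_range.2 (ZMod.val_lt _), by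
        rw [ZMod.natCast_zmod_val, ← mul_assoc, inv_mul_cancel₀ hj, one_mul]⟩
    · intro i hi
      rw [← mul_assoc, mul_inv_cancel₀ hj, one_mul, hpow, ZMod.val_natCast,
        Nat.mod_eq_of_lt (Finset.mem_range.1 hi)]
      simp [c']
  have hdvd : cyclotomic p ℚ ∣ Q := by
    rw [cyclotomic_eq_minpoly_rat hprim hp.out.pos]
    exact minpoly.dvd ℚ ζ hQ
  obtain ⟨R, hR⟩ := hdvd
  have hdeg : Q.natDegree ≤ p - 1 := by
    refine natDegree_sum_le_of_forall_le _ _ fun i hi => (natDegree_C_mul_X_pow_le _ _).trans ?_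
    have := Finset.mem_range.1 hi
    omega
  have hR' : ∃ r : ℚ, R = C r := by
    by_cases hR0 : R = 0
    · exact ⟨0, by rw [hR0, map_zero]⟩
    refine ⟨R.coeff 0, eq_C_of_natDegree_le_zero ?_⟩
    rw [hR, natDegree_mul (cyclotomic_ne_zero p ℚ) hR0, natDegree_cyclotomic,
      Nat.totient_prime hp.out] at hdeg
    omega
  obtain ⟨r, rfl⟩ := hR'
  have hco : ∀ i < p, c' i = r := by
    intro i hi
    have h1 := congrArg (fun P : ℚ[X] => P.coeff i) hR
    rw [cyclotomic_prime] at h1
    simpa [Q, coeff_mul_C, finsetSum_coeff, coeff_X_pow, hi] using h1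
  have key : ∀ e, (c e : ℚ) = r := fun e => by
    have h1 := hco (j * e).val (ZMod.val_lt _)
    simp only [c', ZMod.natCast_zmod_val] at h1
    rwa [← mul_assoc, inv_mul_cancel₀ hj, one_mul] at h1
  exact_mod_cast (key d).trans (key 0).symm

theorem two_by_two {a00 a01 a10 a11 b00 b01 b10 b11 s l m x0 x1 v0 v1 : ℂ}
    (hd : x0 * v1 - x1 * v0 ≠ 0) (e1 : a00 * x0 + a01 * x1 = s * x0)
    (e2 : a10 * x0 + a11 * x1 = s * x1) (e3 : a00 * v0 + a01 * v1 = l * v0)
    (e4 : a10 * v0 + a11 * v1 = l * v1) (f1 : b00 * x0 + b01 * x1 = s * x0)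
    (f2 : b10 * x0 + b11 * x1 = s * x1) (f3 : b00 * v0 + b01 * v1 = m * v0)
    (f4 : b10 * v0 + b11 * v1 = m * v1) :
    a00 * b00 + a01 * b10 + a10 * b01 + a11 * b11 = s * s + l * m := by
  set D := x0 * v1 - x1 * v0 with hD
  have A00 : D * a00 = s * x0 * v1 - l * v0 * x1 := by linear_combination v1 * e1 - x1 * e3
  have A01 : D * a01 = l * v0 * x0 - s * x0 * v0 := by linear_combination x0 * e3 - v0 * e1
  have A10 : D * a10 = s * x1 * v1 - l * v1 * x1 := by linear_combination v1 * e2 - x1 * e4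
  have A11 : D * a11 = l * v1 * x0 - s * x1 * v0 := by linear_combination x0 * e4 - v0 * e2
  have B00 : D * b00 = s * x0 * v1 - m * v0 * x1 := by linear_combination v1 * f1 - x1 * f3
  have B01 : D * b01 = m * v0 * x0 - s * x0 * v0 := by linear_combination x0 * f3 - v0 * f1
  have B10 : D * b10 = s * x1 * v1 - m * v1 * x1 := by linear_combination v1 * f2 - x1 * f4
  have B11 : D * b11 = m * v1 * x0 - s * x1 * v0 := by linear_combination x0 * f4 - v0 * f2
  apply mul_left_cancel₀ (mul_ne_zero hd hd)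
  calc D * D * (a00 * b00 + a01 * b10 + a10 * b01 + a11 * b11)
      = (D * a00) * (D * b00) + (D * a01) * (D * b10) + (D * a10) * (D * b01) +
          (D * a11) * (D * b11) := by ring
    _ = _ := by rw [A00, A01, A10, A11, B00, B01, B10, B11, hD]; ring

end Cfsg.Agent.TwiceP
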