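import Cfsg.Agent.Lib.Perm.TwiceP.Invariant

/-!
The common eigenvectors of the transforms of invariant kernels, and the norm identity.
-/

set_option autoImplicit false
set_option linter.style.haveILetI false
set_option linter.unusedSectionVars false

namespace Cfsg.Agent.TwiceP

open Equiv MulAction Finset

variable {α : Type*} [Fintype α] [DecidableEq α] {G : Subgroup (Perm α)} {p : ℕ}
  [hp : Fact p.Prime] (C : Coord G p) [hpt : IsPretransitive G α]

namespace Coord

/-- Transform of a translate of the sign vector. -/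
noncomputable def U (h : G) (r : Fin 2) (j : ZMod p) : ℂ := ft (fun i => C.uv h (C.E (i, r))) j

/-- Transform of a block. -/
noncomputable def fh (F : α → α → ℤ) (r s : Fin 2) (j : ZMod p) : ℂ := ft (C.blk F r s) j

/-- The second eigenvalue. -/
noncomputable def lam (F : α → α → ℤ) (j : ZMod p) : ℂ := ft (C.hf F) j

theorem lam_eq (F : α → α → ℤ) (j : ZMod p) :
    C.lam F j = C.fh F 0 0 j + C.fh F 1 1 j - (C.sg F : ℂ) := by
  rw [lam, fh, fh, ← ft_add, ← ft_single (C.sg F) j, ← ft_sub]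
  rfl

variable {F : α → α → ℤ} (hF : GInv G F)
include hF hpt

theorem conv_left (h : G) (s : Fin 2) (m : ZMod p) :
    conv (fun i => C.uv h (C.E (i, 0))) (C.blk F 0 s) m +
      conv (fun i => C.uv h (C.E (i, 1))) (C.blk F 1 s) m = C.sg F * C.uv h (C.E (m, s)) := by
  rw [← C.apply_uv_left hF h, C.sum_eq]
  simp only [conv, C.eq_blk hF]

theorem conv_right (h : G) (r : Fin 2) (i : ZMod p) :
    conv (fun j => C.uv h (C.E (j, 0))) (fun d => C.blk F r 0 (-d)) i +
      conv (fun j => C.uv h (C.E (j, 1))) (fun d => C.blk F r 1 (-d)) i =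
      C.sg F * C.uv h (C.E (i, r)) := by
  rw [← C.apply_uv hF h, C.sum_eq]
  simp only [conv, C.eq_blk hF, neg_sub]
  congr 1 <;> exact Finset.sum_congr rfl fun j _ => mul_comm _ _

theorem left_eq (h : G) (s : Fin 2) (j : ZMod p) :
    C.U h 0 j * C.fh F 0 s j + C.U h 1 j * C.fh F 1 s j = C.sg F * C.U h s j := by
  simp only [U, fh, ← ft_conv, ← ft_add, C.conv_left hF]
  simp only [ft, Int.cast_mul, Finset.mul_sum, mul_assoc]

theorem right_eq (h : G) (r : Fin 2) (j : ZMod p) :
    C.fh F r 0 j * C.U h 0 (-j) + C.fh F r 1 j * C.U h 1 (-j) = C.sg F * C.U h r (-j) := by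
  have h1 := fun s => ft_rev (C.blk F r s) (-j)
  simp only [neg_neg] at h1
  simp only [U, fh, ← h1]
  rw [mul_comm (ft _ (-j)), mul_comm (ft _ (-j)) (ft (fun i => C.uv h (C.E (i, 1))) (-j))]
  simp only [← ft_conv, ← ft_add, C.conv_right hF]
  simp only [ft, Int.cast_mul, Finset.mul_sum, mul_assoc]

theorem eig_zero (h : G) (j : ZMod p) :
    C.fh F 0 0 j * (-C.U h 1 j) + C.fh F 0 1 j * C.U h 0 j = C.lam F j * (-C.U h 1 j) := by
  rw [C.lam_eq]
  linear_combination C.left_eq hF h 1 j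

theorem eig_one (h : G) (j : ZMod p) :
    C.fh F 1 0 j * (-C.U h 1 j) + C.fh F 1 1 j * C.U h 0 j = C.lam F j * C.U h 0 j := by
  rw [C.lam_eq]
  linear_combination -(C.left_eq hF h 0 j)

omit hF in
theorem hf_transpose {F : α → α → ℤ} (hF : GInv G F) (d : ZMod p) :
    C.hf (fun x y => F y x) d = C.hf F (-d) := by
  have hb : ∀ r, C.blk (fun x y => F y x) r r d = C.blk F r r (-d) := fun r => by
    show F (C.E (d, r)) (C.E (0, r)) = _
    rw [C.eq_blk hF, zero_sub]
  simp only [hf, hb, C.sg_transpose hF, neg_eq_zero]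

theorem fh_transpose (r s : Fin 2) (j : ZMod p) :
    C.fh (fun x y => F y x) r s j = C.fh F s r (-j) := by
  rw [fh, fh, ← ft_rev]
  refine congrArg (fun c => ft c j) (funext fun d => ?_)
  show F (C.E (d, s)) (C.E (0, r)) = _
  rw [C.eq_blk hF, zero_sub]

theorem product_trace (h : G) (j : ZMod p)
    (hd : C.U h 0 (-j) * C.U h 0 j + C.U h 1 (-j) * C.U h 1 j ≠ 0) :
    C.fh F 0 0 j * C.fh F 0 0 (-j) + C.fh F 0 1 j * C.fh F 0 1 (-j) +
      C.fh F 1 0 j * C.fh F 1 0 (-j) + C.fh F 1 1 j * C.fh F 1 1 (-j) =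
      (C.sg F : ℂ) * C.sg F + C.lam F j * C.lam F (-j) := by
  have hlt : C.lam (fun x y => F y x) j = C.lam F (-j) := by
    rw [lam, lam, ← ft_rev]
    exact congrArg (fun c => ft c j) (funext (C.hf_transpose hF))
  have e1 := C.eig_zero hF.transpose h j
  have e2 := C.eig_one hF.transpose h j
  have e3 := C.right_eq hF.transpose h 0 j
  have e4 := C.right_eq hF.transpose h 1 j
  simp only [C.fh_transpose hF, C.sg_transpose hF, hlt] at e1 e2 e3 e4
  exact two_by_two (x0 := C.U h 0 (-j)) (x1 := C.U h 1 (-j)) (v0 := -C.U h 1 j) (v1 := C.U h 0 j)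
    (fun e => hd (by linear_combination e))
    (C.right_eq hF h 0 j) (C.right_eq hF h 1 j) (C.eig_zero hF h j) (C.eig_one hF h j) e3 e4 e1 e2

/-- The norm identity. -/
theorem norm_identity (h : G)
    (hd : C.U h 0 (-1) * C.U h 0 1 + C.U h 1 (-1) * C.U h 1 1 ≠ 0) :
    ∑ d, C.blk F 0 0 d ^ 2 + ∑ d, C.blk F 0 1 d ^ 2 + ∑ d, C.blk F 1 0 d ^ 2 +
      ∑ d, C.blk F 1 1 d ^ 2 = C.sg F ^ 2 + ∑ d, C.hf F d ^ 2 := by
  let cr : (ZMod p → ℤ) → ZMod p → ℤ := fun a => conv a fun d => a (-d)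
  have cr_zero : ∀ a, cr a 0 = ∑ d, a d ^ 2 := fun a => by
    simp [cr, conv, pow_two]
  have cr_sum : ∀ a, ∑ m, cr a m = (∑ d, a d) ^ 2 := fun a => by
    simp only [cr]
    rw [sum_conv, pow_two]
    congr 1
    exact Equiv.sum_comp (Equiv.neg _) a
  let R : ZMod p → ℤ := fun d => cr (C.blk F 0 0) d + cr (C.blk F 0 1) d + cr (C.blk F 1 0) d +
    cr (C.blk F 1 1) d - cr (C.hf F) d - if d = 0 then C.sg F * C.sg F else 0
  have hR : ft R 1 = 0 := by
    simp only [R, ft_sub, ft_add, ft_single, cr, ft_conv, ft_rev]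
    have := C.product_trace hF h 1 hd
    simp only [fh, lam] at this
    push_cast
    linear_combination this
  have hc := const_of_ft_eq_zero (one_ne_zero) hR
  have hs : ∑ d, R d = (p : ℤ) * R 0 := by
    rw [Finset.sum_congr rfl fun d _ => hc d, Finset.sum_const, Finset.card_univ, ZMod.card,
      nsmul_eq_mul]
  have hzero : ∑ d, R d = 0 := by
    simp only [R, Finset.sum_sub_distrib, Finset.sum_add_distrib, cr_sum, Finset.sum_ite_eq',
      Finset.mem_univ, if_true]
    have h1 := C.tot_sym hF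
    simp only [tot] at h1
    simp only [hf, sg, tot, Finset.sum_sub_distrib, Finset.sum_add_distrib, Finset.sum_ite_eq',
      Finset.mem_univ, if_true, h1.1, h1.2]
    ring
  have h0 : R 0 = 0 := by
    rw [hzero] at hs
    exact (mul_eq_zero.1 hs.symm).resolve_left (by exact_mod_cast hp.out.ne_zero)
  simp only [R, cr_zero, if_pos] at h0
  rw [pow_two (C.sg F)]
  linarith [h0]

end Coord

end Cfsg.Agent.TwiceP
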