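import Cfsg.Agent.Lib.Perm.TwiceP.Setup
import Cfsg.Agent.Lib.Perm.TwiceP.Fourier

/-!
Invariant integer kernels in translation coordinates.
-/

set_option autoImplicit false
set_option linter.style.haveILetI false
set_option linter.unusedSectionVars false

namespace Cfsg.Agent.TwiceP

open Equiv MulAction Finset

variable {α : Type*} [Fintype α] [DecidableEq α] {G : Subgroup (Perm α)} {p : ℕ}
  [hp : Fact p.Prime] (C : Coord G p)

/-- Invariance of a kernel. -/
def GInv (G : Subgroup (Perm α)) (F : α → α → ℤ) : Prop :=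
  ∀ h : G, ∀ x y, F ((h : Perm α) x) ((h : Perm α) y) = F x y

theorem GInv.transpose {F : α → α → ℤ} (hF : GInv G F) : GInv G (fun x y => F y x) :=
  fun h x y => hF h y x

namespace Coord

theorem shift_pow (n : ℕ) (i : ZMod p) (r : Fin 2) :
    ((C.g ^ n : G) : Perm α) (C.E (i, r)) = C.E (i + (n : ZMod p), r) := by
  induction n with
  | zero => simp
  | succ n ih =>
    rw [pow_succ', Subgroup.coe_mul, Perm.mul_apply, ih, C.shift]
    congr 2
    push_cast
    ring

theorem sum_eq {M : Type*} [AddCommMonoid M] (φ : α → M) :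
    ∑ y, φ y = ∑ j, φ (C.E (j, 0)) + ∑ j, φ (C.E (j, 1)) := by
  rw [← Equiv.sum_comp C.E φ, Fintype.sum_prod_type, ← Finset.sum_add_distrib]
  exact Finset.sum_congr rfl fun j _ => Fin.sum_univ_two _

/-- The circulant block of a kernel. -/
def blk (F : α → α → ℤ) (r s : Fin 2) (d : ZMod p) : ℤ := F (C.E (0, r)) (C.E (d, s))

/-- Block totals. -/
def tot (F : α → α → ℤ) (r s : Fin 2) : ℤ := ∑ d, C.blk F r s d

/-- The eigenvalue on the sign vector. -/
def sg (F : α → α → ℤ) : ℤ := C.tot F 0 0 - C.tot F 0 1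

/-- The integer function whose transform is the second eigenvalue. -/
def hf (F : α → α → ℤ) (d : ZMod p) : ℤ :=
  C.blk F 0 0 d + C.blk F 1 1 d - if d = 0 then C.sg F else 0

/-- The sign vector. -/
def wv (x : α) : ℤ := if (C.E.symm x).2 = 0 then 1 else -1

/-- A translate of the sign vector. -/
def uv (h : G) (x : α) : ℤ := C.wv (((h : Perm α)⁻¹) x)

theorem wv_apply (i : ZMod p) (r : Fin 2) : C.wv (C.E (i, r)) = if r = 0 then 1 else -1 := by
  rw [wv, Equiv.symm_apply_apply]

variable {F : α → α → ℤ} (hF : GInv G F)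
include hF

theorem eq_blk (i j : ZMod p) (r s : Fin 2) :
    F (C.E (i, r)) (C.E (j, s)) = C.blk F r s (j - i) := by
  have h := hF (C.g ^ i.val) (C.E (0, r)) (C.E (j - i, s))
  rw [C.shift_pow, C.shift_pow, ZMod.natCast_zmod_val, zero_add, sub_add_cancel] at h
  exact h

theorem row_tot (i : ZMod p) (r s : Fin 2) : ∑ j, F (C.E (i, r)) (C.E (j, s)) = C.tot F r s := by
  rw [tot, ← Equiv.sum_comp (Equiv.addRight i)]
  exact Finset.sum_congr rfl fun d _ => by
    rw [C.eq_blk hF]; simp

theorem col_tot (j : ZMod p) (r s : Fin 2) : ∑ i, F (C.E (i, r)) (C.E (j, s)) = C.tot F r s := by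
  rw [tot, ← Equiv.sum_comp (Equiv.subLeft j)]
  exact Finset.sum_congr rfl fun d _ => by
    rw [C.eq_blk hF]; simp

theorem tot_transpose (r s : Fin 2) : C.tot (fun x y => F y x) r s = C.tot F s r :=
  C.col_tot hF 0 s r

variable [hpt : IsPretransitive G α]
include hpt

theorem row_const (x x' : α) : ∑ y, F x y = ∑ y, F x' y := by
  obtain ⟨h, rfl⟩ := exists_smul_eq G x x'
  conv_rhs => rw [← Equiv.sum_comp (h : Perm α)]
  exact Finset.sum_congr rfl fun y _ => (hF h x y).symm

theorem col_const (y y' : α) : ∑ x, F x y = ∑ x, F x y' :=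
  row_const hF.transpose y y'

theorem tot_sym : C.tot F 1 1 = C.tot F 0 0 ∧ C.tot F 1 0 = C.tot F 0 1 := by
  have h1 := row_const hF (C.E (0, 0)) (C.E (0, 1))
  rw [C.sum_eq, C.sum_eq, C.row_tot hF, C.row_tot hF, C.row_tot hF, C.row_tot hF] at h1
  have h2 := col_const hF (C.E (0, 0)) (C.E (0, 1))
  rw [C.sum_eq, C.sum_eq, C.col_tot hF, C.col_tot hF, C.col_tot hF, C.col_tot hF] at h2
  omega

theorem row_sum (x : α) : ∑ y, F x y = C.tot F 0 0 + C.tot F 0 1 := by
  rw [row_const hF x (C.E (0, 0)), C.sum_eq, C.row_tot hF, C.row_tot hF]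

theorem sg_transpose : C.sg (fun x y => F y x) = C.sg F := by
  rw [sg, sg, C.tot_transpose hF, C.tot_transpose hF, (C.tot_sym hF).2]

theorem apply_wv (x : α) : ∑ y, F x y * C.wv y = C.sg F * C.wv x := by
  obtain ⟨⟨i, r⟩, rfl⟩ := C.E.surjective x
  rw [C.sum_eq]
  simp only [C.wv_apply, ↓reduceIte, show (1 : Fin 2) ≠ 0 from by decide, if_false, mul_one, mul_neg,
    Finset.sum_neg_distrib, C.row_tot hF]
  have := C.tot_sym hF
  fin_cases r <;> simp [sg, this.1, this.2] <;> ring

theorem apply_uv (h : G) (x : α) : ∑ y, F x y * C.uv h y = C.sg F * C.uv h x := by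
  rw [← Equiv.sum_comp (h : Perm α), uv, ← C.apply_wv hF]
  refine Finset.sum_congr rfl fun y _ => ?_
  have h1 := hF h ((h : Perm α)⁻¹ x) y
  rw [show (h : Perm α) (((h : Perm α)⁻¹) x) = x from (h : Perm α).apply_symm_apply x] at h1
  rw [h1, uv, show ((h : Perm α)⁻¹) ((h : Perm α) y) = y from (h : Perm α).symm_apply_apply y]

theorem apply_uv_left (h : G) (y : α) : ∑ x, C.uv h x * F x y = C.sg F * C.uv h y := by
  rw [← C.sg_transpose hF, ← C.apply_uv hF.transpose h y]
  exact Finset.sum_congr rfl fun x _ => mul_comm _ _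

end Coord

end Cfsg.Agent.TwiceP
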