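import Cfsg.Agent.Lib.Perm.TwiceP.Orbital
import Cfsg.Agent.Lib.DefOne.DegreeMain
import Cfsg.Agent.Lib.Perm.Modules

/-!
The invariant space spanned by the eigenvectors, and the bound on the number of eigenvalue classes.
-/

set_option autoImplicit false
set_option linter.style.haveILetI false
set_option linter.unusedSectionVars false

namespace Cfsg.Agent.TwiceP

open Equiv MulAction Finset

open scoped Classical Pointwise

universe u

variable {α : Type u} [Fintype α] [DecidableEq α] {G : Subgroup (Perm α)} (a₀ : α) {p : ℕ}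
  [hp : Fact p.Prime] (C : Coord G p) [hG : IsPreprimitive G α]

theorem ft_conj (c : ZMod p → ℤ) (j : ZMod p) : (starRingEnd ℂ) (ft c j) = ft c (-j) := by
  simp only [ft, map_sum, map_mul, map_intCast, chi_conj, neg_mul]

/-- Nondegeneracy. -/
theorem dot_ne_zero {h : G} (h1 : C.U h 0 1 ≠ 0 ∨ C.U h 1 1 ≠ 0) {j : ZMod p} (hj : j ≠ 0) :
    C.U h 0 (-j) * C.U h 0 j + C.U h 1 (-j) * C.U h 1 j ≠ 0 := by
  intro e
  simp only [Coord.U, ← ft_conj, mul_comm ((starRingEnd ℂ) _), Complex.mul_conj, ← Complex.ofReal_add,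
    Complex.ofReal_eq_zero] at e
  obtain ⟨e0, e1⟩ := (add_eq_zero_iff_of_nonneg (Complex.normSq_nonneg _) (Complex.normSq_nonneg _)).1 e
  rw [Complex.normSq_eq_zero] at e0 e1
  have hz : ∀ r : Fin 2, ft (fun i => C.uv h (C.E (i, r))) j = 0 → C.U h r 1 = 0 := by
    intro r hr
    rw [Coord.U, show (fun i => C.uv h (C.E (i, r))) = fun _ => C.uv h (C.E (0, r)) from
      funext fun i => const_of_ft_eq_zero hj hr i]
    exact ft_const _ one_ne_zero
  exact h1.elim (fun h => h (hz 0 e0)) (fun h => h (hz 1 e1))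

/-- Some translate of the sign vector is nondegenerate. -/
theorem exists_nondeg : ∃ h : G, C.U h 0 1 ≠ 0 ∨ C.U h 1 1 ≠ 0 := by
  by_contra hcon
  push Not at hcon
  have hp2 := hp.out.two_le
  let B : Set α := {x | C.wv x = 1}
  have hwv : ∀ x, C.wv x = 1 ∨ C.wv x = -1 := fun x => by
    unfold Coord.wv; split_ifs <;> simp
  have hB : IsBlock G B := by
    rw [isBlock_iff_smul_eq_or_disjoint]
    intro g
    have hc : ∀ r i, C.uv g (C.E (i, r)) = C.uv g (C.E (0, r)) := fun r i => by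
      refine const_of_ft_eq_zero (c := fun i => C.uv g (C.E (i, r))) one_ne_zero ?_ i
      fin_cases r
      · exact (hcon g).1
      · exact (hcon g).2
    have hmem : ∀ x, x ∈ g • B ↔ C.uv g x = 1 := fun x => by
      rw [Set.mem_smul_set_iff_inv_smul_mem]
      rfl
    have hsum : ∑ x, C.uv g x = 0 := by
      unfold Coord.uv
      rw [Equiv.sum_comp ((g : Perm α)⁻¹) C.wv, C.sum_eq]
      simp [C.wv_apply]
    rw [C.sum_eq] at hsum
    simp only [hc 0, hc 1, Finset.sum_const, Finset.card_univ, ZMod.card, nsmul_eq_mul,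
      ← mul_add] at hsum
    have hne : C.uv g (C.E (0, 0)) + C.uv g (C.E (0, 1)) = 0 :=
      (mul_eq_zero.1 hsum).resolve_left (by exact_mod_cast hp.out.ne_zero)
    rcases hwv ((g : Perm α)⁻¹ (C.E (0, 0))) with e | e
    · left
      ext x
      obtain ⟨⟨i, r⟩, rfl⟩ := C.E.surjective x
      rw [hmem, hc r i]
      show _ ↔ C.wv (C.E (i, r)) = 1
      rw [C.wv_apply]
      have e' : C.uv g (C.E (0, 0)) = 1 := e
      fin_cases r <;> simp [e', show C.uv g (C.E (0, 1)) = -1 by omega]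
    · right
      rw [Set.disjoint_left]
      intro x hx hxB
      obtain ⟨⟨i, r⟩, rfl⟩ := C.E.surjective x
      rw [hmem, hc r i] at hx
      have hxB' : C.wv (C.E (i, r)) = 1 := hxB
      rw [C.wv_apply] at hxB'
      have e' : C.uv g (C.E (0, 0)) = -1 := e
      fin_cases r <;> simp [e'] at hxB' hx
  rcases hB.subsingleton_or_eq_univ with h | h
  · have h0 : C.E (0, 0) ∈ B := by simp [B, C.wv_apply]
    have h1 : C.E (1, 0) ∈ B := by simp [B, C.wv_apply]
    have := congrArg Prod.fst (C.E.injective (h h0 h1))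
    exact zero_ne_one this
  · have h0 : C.E (0, 1) ∈ B := h ▸ Set.mem_univ _
    simp [B, C.wv_apply] at h0

/-- All translates are proportional in every component. -/
def Prop2 : Prop := ∀ h h' : G, ∀ j : ZMod p, j ≠ 0 →
  C.U h 0 j * C.U h' 1 j - C.U h 1 j * C.U h' 0 j = 0

theorem prop2_or : Prop2 C ∨ ∃ h h' : G, ∀ j : ZMod p, j ≠ 0 →
    C.U h 0 j * C.U h' 1 j - C.U h 1 j * C.U h' 0 j ≠ 0 := by
  by_cases h : Prop2 C
  · exact Or.inl h
  · right
    simp only [Prop2] at h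
    push Not at h
    obtain ⟨g, g', j, hj, hne⟩ := h
    refine ⟨g, g', fun i hi e => hne ?_⟩
    simp only [Coord.U, ← ft_conv, ← ft_sub] at e ⊢
    have hc := funext fun d => const_of_ft_eq_zero hi e d
    rw [hc]
    exact ft_const _ hj

/-- The component of a complex vector. -/
noncomputable def Xc (x : α → ℂ) (r : Fin 2) (j : ZMod p) : ℂ :=
  ∑ i, x (C.E (i, r)) * chi (-(i * j))

theorem Xc_inv (x : α → ℂ) (r : Fin 2) (i : ZMod p) :
    ∑ j, Xc C x r j * chi (i * j) = (p : ℂ) * x (C.E (i, r)) := by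
  simp only [Xc, Finset.sum_mul, mul_assoc, ← AddChar.map_add_eq_mul]
  rw [Finset.sum_comm, Finset.sum_eq_single i]
  · rw [← Finset.mul_sum]
    simp [AddChar.map_zero_eq_one, mul_comm]
  · intro l _ hl
    rw [← Finset.mul_sum]
    have e : ∀ j : ZMod p, -(l * j) + i * j = j * (i - l) := fun j => by ring
    simp only [e, chi_sum_all, if_neg (sub_ne_zero.2 (Ne.symm hl)), mul_zero]
  · simp

theorem Xc_kernel {F : α → α → ℤ} (hF : GInv G F) (x : α → ℂ) (r : Fin 2) (j : ZMod p) :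
    Xc C (fun a => ∑ b, (F a b : ℂ) * x b) r j =
      C.fh F r 0 j * Xc C x 0 j + C.fh F r 1 j * Xc C x 1 j := by
  have key : ∀ s : Fin 2, ∑ i, (∑ l, (F (C.E (i, r)) (C.E (l, s)) : ℂ) * x (C.E (l, s))) *
      chi (-(i * j)) = C.fh F r s j * Xc C x s j := by
    intro s
    simp only [Finset.sum_mul, Coord.fh, ft, Xc, C.eq_blk hF]
    rw [Finset.sum_comm]
    simp only [Finset.mul_sum]
    conv_rhs => rw [Finset.sum_comm]
    refine Finset.sum_congr rfl fun l _ => ?_
    rw [← Equiv.sum_comp (Equiv.subLeft l)]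
    refine Finset.sum_congr rfl fun d _ => ?_
    simp only [Equiv.subLeft_apply, sub_sub_cancel]
    rw [show -((l - d) * j) = j * d + -(l * j) by ring, AddChar.map_add_eq_mul]
    ring
  rw [← key, ← key, Xc, ← Finset.sum_add_distrib]
  refine Finset.sum_congr rfl fun i _ => ?_
  rw [C.sum_eq, add_mul]

/-- The eigenvector of component `j`. -/
noncomputable def vec (h : G) (j : ZMod p) (x : α) : ℂ :=
  (if (C.E.symm x).2 = 0 then -C.U h 1 j else C.U h 0 j) * chi ((C.E.symm x).1 * j)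

theorem vec_apply (h : G) (j : ZMod p) (i : ZMod p) (r : Fin 2) :
    vec C h j (C.E (i, r)) = (if r = 0 then -C.U h 1 j else C.U h 0 j) * chi (i * j) := by
  rw [vec, Equiv.symm_apply_apply]

theorem sum_vec (h : G) {j : ZMod p} (hj : j ≠ 0) : ∑ x, vec C h j x = 0 := by
  rw [C.sum_eq]
  simp only [vec_apply, ← Finset.mul_sum]
  rw [show ∑ i : ZMod p, chi (i * j) = 0 from
    (Finset.sum_congr rfl fun i _ => by rw [mul_comm]).trans (chi_sum hj), mul_zero, mul_zero, add_zero]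

theorem dot_vec (h h' : G) (j : ZMod p) :
    ∑ x, vec C h j x * (C.uv h' x : ℂ) =
      C.U h 0 j * C.U h' 1 j - C.U h 1 j * C.U h' 0 j := by
  rw [C.sum_eq]
  simp only [vec_apply, ↓reduceIte, show (1 : Fin 2) ≠ 0 from by decide]
  have e : ∀ r, C.U h' r j = ∑ i, chi (i * j) * (C.uv h' (C.E (i, r)) : ℂ) := fun r =>
    Finset.sum_congr rfl fun i _ => by rw [mul_comm i j, mul_comm]
  simp only [mul_assoc, ← Finset.mul_sum, ← e]
  ring

theorem kernel_vec {F : α → α → ℤ} (hF : GInv G F) (h : G) (j : ZMod p) (x : α) :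
    ∑ y, (F x y : ℂ) * vec C h j y = C.lam F j * vec C h j x := by
  obtain ⟨⟨i, r⟩, rfl⟩ := C.E.surjective x
  have key : ∀ s : Fin 2, ∑ l, (F (C.E (i, r)) (C.E (l, s)) : ℂ) * chi (l * j) =
      C.fh F r s j * chi (i * j) := by
    intro s
    rw [Coord.fh, ft, Finset.sum_mul, ← Equiv.sum_comp (Equiv.addLeft i)]
    refine Finset.sum_congr rfl fun d _ => ?_
    simp only [Equiv.coe_addLeft, C.eq_blk hF, add_sub_cancel_left]
    rw [add_mul, AddChar.map_add_eq_mul, mul_comm d j]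
    ring
  rw [C.sum_eq]
  simp only [vec_apply, ↓reduceIte, show (1 : Fin 2) ≠ 0 from by decide]
  simp only [mul_left_comm ((F _ _ : ℤ) : ℂ), ← Finset.mul_sum, key]
  fin_cases r
  · simp only [Fin.zero_eta, ↓reduceIte]
    linear_combination chi (i * j) * C.eig_zero hF h j
  · simp only [Fin.mk_one, show (1 : Fin 2) ≠ 0 from by decide, ↓reduceIte]
    linear_combination chi (i * j) * C.eig_one hF h j

/-- The units fixing every `n_b`. -/
noncomputable def fixU : Subgroup (ZMod p)ˣ where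
  carrier := {m | ∀ b, b ≠ a₀ → ∀ d : ZMod p, d ≠ 0 → num a₀ C b (m * d) = num a₀ C b d}
  one_mem' := by intro b _ d _; rw [Units.val_one, one_mul]
  mul_mem' := by
    intro m m' hm hm' b hb d hd
    rw [Units.val_mul, mul_assoc, hm b hb _ (mul_ne_zero m'.ne_zero hd), hm' b hb d hd]
  inv_mem' := by
    intro m hm b hb d hd
    have := hm b hb _ (mul_ne_zero (m⁻¹).ne_zero hd)
    rw [← mul_assoc, ← Units.val_mul, mul_inv_cancel, Units.val_one, one_mul] at this
    exact this.symm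

theorem mem_fixU_of_lam {m : (ZMod p)ˣ}
    (h : ∀ b, b ≠ a₀ → C.lam (orb G a₀ b) (m : ZMod p) = C.lam (orb G a₀ b) 1) :
    m⁻¹ ∈ fixU a₀ C := by
  intro b hb d hd
  set c := C.hf (orb G a₀ b)
  have e : ft (fun d : ZMod p => c (((m⁻¹ : (ZMod p)ˣ) : ZMod p) * d)) 1 = C.lam (orb G a₀ b) (m : ZMod p) := by
    rw [Coord.lam, ft, ft, ← Equiv.sum_comp (Units.mulLeft m)]
    refine Finset.sum_congr rfl fun x _ => ?_
    show (c (((m⁻¹ : (ZMod p)ˣ) : ZMod p) * ((m : ZMod p) * x)) : ℂ) * chi (1 * ((m : ZMod p) * x)) =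
      (c x : ℂ) * chi ((m : ZMod p) * x)
    rw [← mul_assoc, ← Units.val_mul, inv_mul_cancel, Units.val_one, one_mul, one_mul]
  have h2 : ft (fun d : ZMod p => c (((m⁻¹ : (ZMod p)ˣ) : ZMod p) * d) - c d) 1 = 0 := by
    rw [ft_sub, e, h b hb]
    exact sub_self _
  have h3 := const_of_ft_eq_zero one_ne_zero h2 d
  simp only [mul_zero, sub_self, sub_eq_zero] at h3
  simp only [c] at h3
  rw [hf_orb a₀ C hb, hf_orb a₀ C hb, if_neg (mul_ne_zero (m⁻¹).ne_zero hd), if_neg hd] at h3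
  exact h3

/-- The invariant space. -/
noncomputable def space (h0 : G) : Submodule ℂ (α → ℂ) where
  carrier := {x | ∑ a, x a = 0 ∧ (∀ h : G, ∑ a, x a * (C.uv h a : ℂ) = 0) ∧
    ∀ b, b ≠ a₀ → ∀ a, ∑ y, (orb G a₀ b a y : ℂ) * x y = C.lam (orb G a₀ b) 1 * x a}
  zero_mem' := by simp
  add_mem' := by
    rintro x y ⟨hx1, hx2, hx3⟩ ⟨hy1, hy2, hy3⟩
    refine ⟨?_, fun h => ?_, fun b hb a => ?_⟩
    · simp [Finset.sum_add_distrib, hx1, hy1]
    · simp [add_mul, Finset.sum_add_distrib, hx2, hy2]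
    · simp [mul_add, Finset.sum_add_distrib, hx3 b hb a, hy3 b hb a]
  smul_mem' := by
    rintro c x ⟨hx1, hx2, hx3⟩
    refine ⟨?_, fun h => ?_, fun b hb a => ?_⟩
    · simp [← Finset.mul_sum, hx1]
    · simp [mul_assoc, ← Finset.mul_sum, hx2]
    · simp only [Pi.smul_apply, smul_eq_mul, mul_left_comm _ c, ← Finset.mul_sum, hx3 b hb a]

theorem space_invariant (h0 : G) (g : G) {x : α → ℂ} (hx : x ∈ space a₀ C h0) :
    Cfsg.permRep ℂ G α g x ∈ space a₀ C h0 := by
  obtain ⟨h1, h2, h3⟩ := hx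
  have he : Cfsg.permRep ℂ G α g x = fun a => x (((g : Perm α)⁻¹) a) := funext fun a =>
    PermModules.permRep_apply g x a
  rw [he]
  refine ⟨?_, fun h => ?_, fun b hb a => ?_⟩
  · rw [Equiv.sum_comp ((g : Perm α)⁻¹) x]; exact h1
  · rw [← h2 (g⁻¹ * h), ← Equiv.sum_comp (g : Perm α)]
    refine Finset.sum_congr rfl fun a _ => ?_
    simp only [Coord.uv, Subgroup.coe_mul, InvMemClass.coe_inv, mul_inv_rev, inv_inv, Perm.mul_apply,
      Perm.coe_inv, Equiv.symm_apply_apply]
  · simp only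
    rw [← h3 b hb (((g : Perm α)⁻¹) a), ← Equiv.sum_comp (g : Perm α)]
    refine Finset.sum_congr rfl fun y _ => ?_
    rw [show ((g : Perm α)⁻¹) ((g : Perm α) y) = y from (g : Perm α).symm_apply_apply y]
    congr 2
    have := orb_inv a₀ (G := G) b g (((g : Perm α)⁻¹) a) y
    rwa [show (g : Perm α) (((g : Perm α)⁻¹) a) = a from (g : Perm α).apply_symm_apply a] at this

theorem vec_mem (h0 : G) (hP : Prop2 C) : vec C h0 1 ∈ space a₀ C h0 :=
  ⟨sum_vec C h0 one_ne_zero, fun h => by rw [dot_vec]; exact hP h0 h 1 one_ne_zero,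
    fun b _ a => kernel_vec C (orb_inv a₀ b) h0 1 a⟩

theorem Xc_vanish (h0 : G) {x : α → ℂ} (hx : x ∈ space a₀ C h0) (j : ZMod p) :
    Xc C x 0 j * C.U h0 0 j + Xc C x 1 j * C.U h0 1 j = 0 := by
  obtain ⟨-, h2, -⟩ := hx
  have e : ∀ m : ZMod p, ∑ r : Fin 2, ∑ i, x (C.E (i, r)) * (C.uv h0 (C.E (i + m, r)) : ℂ) = 0 := by
    intro m
    rw [← h2 ((C.g ^ m.val)⁻¹ * h0), C.sum_eq, Fin.sum_univ_two]
    congr 1 <;>
    · refine Finset.sum_congr rfl fun i _ => ?_
      simp only [Coord.uv, Subgroup.coe_mul, InvMemClass.coe_inv, mul_inv_rev, inv_inv, Perm.mul_apply]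
      rw [C.shift_pow, ZMod.natCast_zmod_val]
  have key : ∀ r, ∑ m : ZMod p, (∑ i, x (C.E (i, r)) * (C.uv h0 (C.E (i + m, r)) : ℂ)) * chi (j * m) =
      Xc C x r j * C.U h0 r j := by
    intro r
    simp only [Finset.sum_mul, Xc, Coord.U, ft, Finset.mul_sum]
    rw [Finset.sum_comm]
    conv_rhs => rw [Finset.sum_comm]
    refine Finset.sum_congr rfl fun i _ => ?_
    rw [← Equiv.sum_comp (Equiv.subRight i)]
    refine Finset.sum_congr rfl fun d _ => ?_
    simp only [Equiv.subRight_apply, add_sub_cancel]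
    rw [show j * (d - i) = -(i * j) + j * d by ring, AddChar.map_add_eq_mul]
    ring
  rw [← key, ← key, ← Finset.sum_add_distrib]
  refine Finset.sum_eq_zero fun m _ => ?_
  rw [← add_mul, ← Fin.sum_univ_two (fun r => ∑ i, x (C.E (i, r)) * (C.uv h0 (C.E (i + m, r)) : ℂ)),
    e, zero_mul]

theorem Xc_zero (h0 : G) {x : α → ℂ} (hx : x ∈ space a₀ C h0) (r : Fin 2) : Xc C x r 0 = 0 := by
  have h1 := hx.1
  have h2 := hx.2.1 1
  rw [C.sum_eq] at h1 h2
  have hu : ∀ a, C.uv 1 a = C.wv a := fun a => by simp [Coord.uv]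
  simp only [hu, C.wv_apply, ↓reduceIte, show (1 : Fin 2) ≠ 0 from by decide, Int.cast_one,
    Int.cast_neg, mul_one, mul_neg, Finset.sum_neg_distrib] at h2
  simp only [Xc, mul_zero, neg_zero, AddChar.map_zero_eq_one, mul_one]
  fin_cases r
  · show ∑ i, x (C.E (i, 0)) = 0
    linear_combination (h1 + h2) / 2
  · show ∑ i, x (C.E (i, 1)) = 0
    linear_combination (h1 - h2) / 2

/-- The coefficient of a component. -/
noncomputable def coef (h0 : G) (j : ZMod p) : (α → ℂ) →ₗ[ℂ] ℂ where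
  toFun x := Xc C x 1 j * C.U h0 0 (-j) - Xc C x 0 j * C.U h0 1 (-j)
  map_add' x y := by simp only [Xc, Pi.add_apply, add_mul, Finset.sum_add_distrib]; ring
  map_smul' c x := by
    simp only [Xc, Pi.smul_apply, smul_eq_mul, mul_assoc, ← Finset.mul_sum, RingHom.id_apply]
    ring

theorem coef_apply (h0 : G) (j : ZMod p) (x : α → ℂ) :
    coef C h0 j x = Xc C x 1 j * C.U h0 0 (-j) - Xc C x 0 j * C.U h0 1 (-j) := rfl

theorem comp_eig {U0 U1 V0 V1 X0 X1 c l l1 a00 a01 a10 a11 : ℂ}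
    (hN : V0 * U0 + V1 * U1 ≠ 0) (ha : U0 * c = X1 * (V0 * U0 + V1 * U1))
    (hb : U1 * c = -(X0 * (V0 * U0 + V1 * U1)))
    (k0 : a00 * -U1 + a01 * U0 = l * -U1) (k1 : a10 * -U1 + a11 * U0 = l * U0)
    (m0 : a00 * X0 + a01 * X1 = l1 * X0) (m1 : a10 * X0 + a11 * X1 = l1 * X1) :
    (l - l1) * c = 0 := by
  have e0 : (l - l1) * (U1 * c) = 0 := by
    linear_combination c * k0 - (V0 * U0 + V1 * U1) * m0 + (a00 - l1) * hb - a01 * ha
  have e1 : (l - l1) * (U0 * c) = 0 := by
    linear_combination -c * k1 + (V0 * U0 + V1 * U1) * m1 + (a11 - l1) * ha - a10 * hb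
  refine (mul_eq_zero.1 ?_).resolve_left hN
  linear_combination V1 * e0 + V0 * e1

theorem eq_zero_of_coef {h0 : G} (hd : C.U h0 0 1 ≠ 0 ∨ C.U h0 1 1 ≠ 0) {x : α → ℂ}
    (hx : x ∈ space a₀ C h0) (hc : ∀ j ∈ fixU a₀ C, coef C h0 (j : ZMod p) x = 0) : x = 0 := by
  have hX : ∀ j r, Xc C x r j = 0 := by
    intro j r
    rcases eq_or_ne j 0 with rfl | hj
    · exact Xc_zero a₀ C h0 hx r
    have hN := dot_ne_zero C hd hj
    have hv := Xc_vanish a₀ C h0 hx j
    have h0' : C.U h0 0 j * coef C h0 j x =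
        Xc C x 1 j * (C.U h0 0 (-j) * C.U h0 0 j + C.U h0 1 (-j) * C.U h0 1 j) := by
      rw [coef_apply]
      linear_combination -(C.U h0 1 (-j)) * hv
    have h1' : C.U h0 1 j * coef C h0 j x =
        -(Xc C x 0 j * (C.U h0 0 (-j) * C.U h0 0 j + C.U h0 1 (-j) * C.U h0 1 j)) := by
      rw [coef_apply]
      linear_combination (C.U h0 0 (-j)) * hv
    have hc0 : coef C h0 j x = 0 := by
      by_cases hm : Units.mk0 j hj ∈ fixU a₀ C
      · have h5 := hc _ hm
        rw [Units.val_mk0] at h5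
        exact h5
      by_contra hne
      refine hm ?_
      rw [← inv_inv (Units.mk0 j hj)]
      refine inv_mem (mem_fixU_of_lam a₀ C fun b hb => ?_)
      rw [Units.val_mk0]
      have hker : ∀ r, C.fh (orb G a₀ b) r 0 j * Xc C x 0 j + C.fh (orb G a₀ b) r 1 j * Xc C x 1 j =
          C.lam (orb G a₀ b) 1 * Xc C x r j := by
        intro r
        rw [← Xc_kernel C (orb_inv a₀ b)]
        simp only [Xc, hx.2.2 b hb, mul_assoc, Finset.mul_sum]
      have k0 := C.eig_zero (orb_inv a₀ b) h0 j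
      have k1 := C.eig_one (orb_inv a₀ b) h0 j
      have m0 := hker 0
      have m1 := hker 1
      exact sub_eq_zero.1 ((mul_eq_zero.1 (comp_eig hN h0' h1' k0 k1 m0 m1)).resolve_right hne)
    rw [hc0, mul_zero] at h0' h1'
    revert r
    rw [Fin.forall_fin_two]
    exact ⟨(mul_eq_zero.1 (neg_eq_zero.1 h1'.symm)).resolve_right hN,
      (mul_eq_zero.1 h0'.symm).resolve_right hN⟩
  funext a
  obtain ⟨⟨i, r⟩, rfl⟩ := C.E.surjective a
  have h1 := Xc_inv C x r i
  simp only [hX, zero_mul, Finset.sum_const_zero] at h1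
  exact (mul_eq_zero.1 h1.symm).resolve_left (Nat.cast_ne_zero.2 hp.out.ne_zero)

theorem index_le_two (hα : Fintype.card α = 2 * p) (h2 : p ≠ 2) (hsq : ¬ p ^ 2 ∣ Nat.card G)
    {h0 : G} (hd : C.U h0 0 1 ≠ 0 ∨ C.U h0 1 1 ≠ 0) (hP : Prop2 C) :
    (fixU a₀ C).index ≤ 2 := by
  let L : space a₀ C h0 →ₗ[ℂ] (fixU a₀ C → ℂ) :=
    LinearMap.pi fun m => (coef C h0 ((m : (ZMod p)ˣ) : ZMod p)).comp (space a₀ C h0).subtype
  have hL : Function.Injective L := by
    rw [injective_iff_map_eq_zero]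
    intro x hx
    exact Subtype.ext (eq_zero_of_coef a₀ C hd x.2 fun j hj => congrFun hx ⟨j, hj⟩)
  have hdim : Module.finrank ℂ (space a₀ C h0) ≤ Nat.card (fixU a₀ C) := by
    refine (LinearMap.finrank_le_finrank_of_injective hL).trans_eq ?_
    rw [Module.finrank_fintype_fun_eq_card, Nat.card_eq_fintype_card]
  let W : Subrepresentation (Cfsg.permRep ℂ G α) :=
    ⟨space a₀ C h0, fun g x hx => space_invariant a₀ C h0 g hx⟩
  let ρ : Representation ℂ G (space a₀ C h0) := W.toRepresentation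
  have hmoves : C.g ∉ ρ.ker := by
    intro hg
    have h1 : ρ C.g ⟨vec C h0 1, vec_mem a₀ C h0 hP⟩ = ⟨vec C h0 1, vec_mem a₀ C h0 hP⟩ := by
      rw [show ρ C.g = 1 from hg]
      rfl
    have hr : ∀ r : Fin 2, (if r = 0 then -C.U h0 1 1 else C.U h0 0 1) = 0 := by
      intro r
      have h3 := congrFun (congrArg Subtype.val h1) (C.E (1, r))
      change Cfsg.permRep ℂ G α C.g (vec C h0 1) (C.E (1, r)) = vec C h0 1 (C.E (1, r)) at h3
      rw [PermModules.permRep_apply, show C.g⁻¹ • C.E (1, r) = C.E (0, r) by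
        rw [inv_smul_eq_iff]
        show C.E (1, r) = (C.g : Perm α) (C.E (0, r))
        rw [C.shift, zero_add], vec_apply, vec_apply, zero_mul, one_mul, AddChar.map_zero_eq_one,
        mul_one] at h3
      by_contra hne
      exact chi_one_ne (p := p) (mul_left_cancel₀ hne ((mul_one _).trans h3)).symm
    have hr0 := hr 0
    have hr1 := hr 1
    simp only [↓reduceIte, neg_eq_zero, show (1 : Fin 2) ≠ 0 from by decide] at hr0 hr1
    exact hd.elim (fun h => h hr1) (fun h => h hr0)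
  have hPcard : Nat.card (Subgroup.zpowers C.g) = p := by rw [Nat.card_zpowers, C.ord]
  have hker : ρ.ker = ⊥ := by
    by_contra hne
    have hfix : fixedPoints (ρ.ker : Subgroup G) α ≠ .univ := by
      intro h
      refine hne (eq_bot_iff.2 fun u hu => ?_)
      rw [Subgroup.mem_bot]
      refine Subtype.ext (Equiv.ext fun a => ?_)
      exact (h ▸ Set.mem_univ a : a ∈ fixedPoints (ρ.ker : Subgroup G) α) ⟨u, hu⟩
    haveI := IsQuasiPreprimitive.isPretransitive_of_normal hfix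
    have hdvd : p ∣ Nat.card (ρ.ker : Subgroup G) := by
      refine dvd_trans ?_ (Subgroup.index_dvd_card (stabilizer (ρ.ker : Subgroup G) a₀))
      rw [index_stabilizer_of_transitive (ρ.ker : Subgroup G) a₀, Nat.card_eq_fintype_card, hα]
      exact dvd_mul_left p 2
    obtain ⟨z, hz⟩ := exists_prime_orderOf_dvd_card' p hdvd
    have hsyl : ∀ u : G, orderOf u = p → ∃ S : Sylow p G, (S : Subgroup G) = Subgroup.zpowers u := by
      intro u hu
      have hcu : Nat.card (Subgroup.zpowers u) = p := by rw [Nat.card_zpowers, hu]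
      have hpu : IsPGroup p (Subgroup.zpowers u) := IsPGroup.of_card (n := 1) (by rw [hcu, pow_one])
      refine ⟨hpu.toSylow ?_, rfl⟩
      intro hdv
      apply hsq
      rw [← Subgroup.card_mul_index (Subgroup.zpowers u), hcu, pow_two]
      exact mul_dvd_mul_left p hdv
    obtain ⟨S, hS⟩ := hsyl C.g C.ord
    obtain ⟨S', hS'⟩ := hsyl (z : G) (by rw [Subgroup.orderOf_coe, hz])
    obtain ⟨c, hc⟩ := exists_smul_eq G S' S
    apply hmoves
    have hg : C.g ∈ (S : Subgroup G) := hS ▸ Subgroup.mem_zpowers _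
    rw [← hc, Sylow.coe_subgroup_smul, Subgroup.mem_pointwise_smul_iff_inv_smul_mem, hS', ← map_inv,
      MulAut.smul_def, MulAut.conj_apply, inv_inv] at hg
    have h4 : c⁻¹ * C.g * c ∈ ρ.ker := (Subgroup.zpowers_le.2 z.2) hg
    have := (inferInstance : ρ.ker.Normal).conj_mem _ h4 c
    rwa [show c * (c⁻¹ * C.g * c) * c⁻¹ = C.g by group] at this
  have hdeg : Cfsg.charDegree ρ.character = Module.finrank ℂ (space a₀ C h0) := by
    simp [Cfsg.charDegree, Representation.char_one]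
  have hidx := Subgroup.card_mul_index (fixU a₀ C)
  rw [Nat.card_eq_fintype_card (α := (ZMod p)ˣ), ZMod.card_units] at hidx
  have hp2 := hp.out.two_le
  by_contra hlt
  push Not at hlt
  have hnot : ¬ (Subgroup.zpowers C.g).Normal := by
    intro hn
    have hconst : ∀ r i, C.uv h0 (C.E (i, r)) = C.uv h0 (C.E (0, r)) := by
      intro r i
      have h4 := hn.conj_mem (C.g ^ i.val) (Subgroup.npow_mem_zpowers _ _) h0⁻¹
      rw [← mem_powers_iff_mem_zpowers] at h4
      obtain ⟨m, hm⟩ := h4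
      simp only [inv_inv] at hm
      have h5 : (h0⁻¹ : G) * C.g ^ i.val = C.g ^ m * h0⁻¹ := by rw [hm]; group
      have h6 : C.E (i, r) = ((C.g ^ i.val : G) : Perm α) (C.E (0, r)) := by
        rw [C.shift_pow, zero_add, ZMod.natCast_zmod_val]
      obtain ⟨⟨l, q⟩, hlq⟩ := C.E.surjective (((h0 : Perm α)⁻¹) (C.E (0, r)))
      simp only [Coord.uv]
      rw [h6, ← InvMemClass.coe_inv, ← Perm.mul_apply, ← Subgroup.coe_mul, h5, Subgroup.coe_mul,
        Perm.mul_apply, InvMemClass.coe_inv, ← hlq, C.shift_pow, C.wv_apply, C.wv_apply]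
    refine hd.elim (fun h => h ?_) (fun h => h ?_) <;>
    · rw [Coord.U, show (fun i => C.uv h0 (C.E (i, _))) = fun _ => C.uv h0 (C.E (0, _)) from
        funext fun i => hconst _ i]
      exact ft_const _ one_ne_zero
  refine hnot (DefOne.normal_of_small hp.out _ G rfl (Subgroup.zpowers C.g) hPcard hsq ρ.character
    (Char.isCharacter_of_rep ρ) (fun g hg => ?_) ?_)
  · rw [← Subgroup.mem_bot, ← hker, MonoidHom.mem_ker]
    rwa [Representation.char_one, Char.char_eq_degree_iff, ← Module.End.one_eq_id] at hg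
  · have h3 : 3 * Nat.card (fixU a₀ C) ≤ p - 1 := by
      rw [← hidx, mul_comm]
      exact Nat.mul_le_mul_left _ hlt
    rw [hdeg]
    omega

end Cfsg.Agent.TwiceP
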