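import Cfsg.Agent.Lib.Perm.TwiceP.Eigen
import Cfsg.Agent.S0707

/-!
Orbital kernels and the numbers `n(d)`.
-/

set_option autoImplicit false
set_option linter.style.haveILetI false
set_option linter.unusedSectionVars false

namespace Cfsg.Agent.TwiceP

open Equiv MulAction Finset

open scoped Classical

variable {α : Type*} [Fintype α] [DecidableEq α] {G : Subgroup (Perm α)} (a₀ : α)

/-- The orbital kernel of `b`. -/
noncomputable def orb (G : Subgroup (Perm α)) (a₀ b : α) (x y : α) : ℤ :=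
  if ∃ h : G, (h : Perm α) a₀ = x ∧ (h : Perm α) b = y then 1 else 0

theorem orb_inv (b : α) : GInv G (orb G a₀ b) := by
  intro g x y
  unfold orb
  congr 1
  apply propext
  constructor
  · rintro ⟨h, h1, h2⟩
    exact ⟨g⁻¹ * h, by
      rw [Subgroup.coe_mul, Perm.mul_apply, h1, InvMemClass.coe_inv]
      exact (g : Perm α).symm_apply_apply x, by
      rw [Subgroup.coe_mul, Perm.mul_apply, h2, InvMemClass.coe_inv]
      exact (g : Perm α).symm_apply_apply y⟩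
  · rintro ⟨h, h1, h2⟩
    exact ⟨g * h, by rw [Subgroup.coe_mul, Perm.mul_apply, h1], by
      rw [Subgroup.coe_mul, Perm.mul_apply, h2]⟩

theorem orb_zero_one (b x y : α) : orb G a₀ b x y = 0 ∨ orb G a₀ b x y = 1 := by
  unfold orb
  split_ifs <;> simp

theorem orb_diag {b : α} (hb : b ≠ a₀) (x : α) : orb G a₀ b x x = 0 := by
  unfold orb
  rw [if_neg]
  rintro ⟨h, h1, h2⟩
  exact hb ((h : Perm α).injective (h2.trans h1.symm))

theorem orb_apply_a₀ (b y : α) :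
    orb G a₀ b a₀ y = if y ∈ orbit (stabilizer G a₀) b then 1 else 0 := by
  unfold orb
  refine if_congr ?_ rfl rfl
  constructor
  · rintro ⟨h, h1, h2⟩
    exact ⟨⟨h, h1⟩, h2⟩
  · rintro ⟨h, rfl⟩
    exact ⟨h, h.2, rfl⟩

theorem row_orb (b : α) : ∑ y, orb G a₀ b a₀ y = Nat.card (orbit (stabilizer G a₀) b) := by
  simp only [orb_apply_a₀]
  rw [Finset.sum_boole, Nat.card_eq_fintype_card, ← Set.toFinset_card]
  norm_cast
  refine congrArg Finset.card (Finset.ext fun y => ?_)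
  simp

theorem ginv_ext [IsPretransitive G α] {F F' : α → α → ℤ} (hF : GInv G F) (hF' : GInv G F')
    (h : ∀ y, F a₀ y = F' a₀ y) (x y : α) : F x y = F' x y := by
  obtain ⟨g, rfl⟩ := exists_smul_eq G a₀ x
  obtain ⟨z, rfl⟩ : ∃ z, (g : Perm α) z = y := ⟨_, (g : Perm α).apply_symm_apply y⟩
  show F ((g : Perm α) a₀) _ = F' ((g : Perm α) a₀) _
  rw [hF, hF', h]

theorem orb_eq_of_mem [IsPretransitive G α] {b c : α} (h : c ∈ orbit (stabilizer G a₀) b) :
    orb G a₀ c = orb G a₀ b := by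
  funext x y
  refine ginv_ext a₀ (orb_inv a₀ c) (orb_inv a₀ b) (fun z => ?_) x y
  rw [orb_apply_a₀, orb_apply_a₀]
  exact if_congr (by rw [orbit_eq_iff.2 h]) rfl rfl

variable {p : ℕ} [hp : Fact p.Prime] (C : Coord G p) [hG : IsPreprimitive G α]

theorem two_le_orbit (hα : Fintype.card α = 2 * p) {b : α} (hb : b ≠ a₀) :
    2 ≤ Nat.card (orbit (stabilizer G a₀) b) := by
  by_contra hlt
  haveI : Subsingleton (orbit (stabilizer G a₀) b) :=
    Finite.card_le_one_iff_subsingleton.1 (by omega)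
  have hle : stabilizer G a₀ ≤ stabilizer G b := fun g hg =>
    (congrArg Subtype.val (Subsingleton.elim
      (⟨g • b, ⟨g, hg⟩, rfl⟩ : orbit (stabilizer G a₀) b) ⟨b, mem_orbit_self b⟩) :)
  haveI : Nontrivial α := ⟨⟨b, a₀, hb⟩⟩
  have hmax := (isCoatom_stabilizer_iff_preprimitive G a₀).2 hG
  have hne : stabilizer G b ≠ ⊤ := ((isCoatom_stabilizer_iff_preprimitive G b).2 hG).1
  refine S0707.result G (Or.inl ?_) hb.symm (hle.eq_or_lt.resolve_right fun h => hne (hmax.2 _ h))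
  rw [Nat.card_eq_fintype_card, hα]
  exact Nat.not_prime_mul (by norm_num) hp.out.ne_one

theorem sum_ite_split (φ : ZMod p → ℤ) (z : ℤ) (h0 : φ 0 = z) :
    ∑ d, φ d = z + ∑ u : (ZMod p)ˣ, φ u := by
  rw [← h0]
  rw [show ∑ u : (ZMod p)ˣ, φ u = ∑ u : {d : ZMod p // d ≠ 0}, φ u from
    Fintype.sum_equiv unitsEquivNeZero _ _ fun _ => rfl]
  rw [← Finset.sum_subtype (univ.erase 0) (by simp) φ, Finset.add_sum_erase _ _ (mem_univ 0)]

/-- `n(d)`. -/
noncomputable def num (b : α) (d : ZMod p) : ℤ :=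
  C.blk (orb G a₀ b) 0 0 d + C.blk (orb G a₀ b) 1 1 d

theorem num_zero {b : α} (hb : b ≠ a₀) : num a₀ C b 0 = 0 := by
  simp [num, Coord.blk, orb_diag a₀ hb]

theorem num_nonneg (b : α) (d : ZMod p) : 0 ≤ num a₀ C b d := by
  rcases orb_zero_one a₀ (G := G) b (C.E (0, 0)) (C.E (d, 0)) with e | e <;>
    rcases orb_zero_one a₀ (G := G) b (C.E (0, 1)) (C.E (d, 1)) with e' | e' <;>
    simp [num, Coord.blk, e, e']

theorem hf_orb {b : α} (hb : b ≠ a₀) {d : ZMod p} :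
    C.hf (orb G a₀ b) d = if d = 0 then -C.sg (orb G a₀ b) else num a₀ C b d := by
  show num a₀ C b d - _ = _
  split_ifs with h
  · rw [h, num_zero a₀ C hb]; ring
  · ring

/-- The two numerical identities. -/
theorem num_identities (h : G)
    (hd : C.U h 0 (-1) * C.U h 0 1 + C.U h 1 (-1) * C.U h 1 1 ≠ 0) {b : α} (hb : b ≠ a₀) :
    ∑ u : (ZMod p)ˣ, num a₀ C b u =
        (Nat.card (orbit (stabilizer G a₀) b) : ℤ) + C.sg (orb G a₀ b) ∧
      ∑ u : (ZMod p)ˣ, num a₀ C b u ^ 2 + 2 * C.sg (orb G a₀ b) ^ 2 =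
        2 * (Nat.card (orbit (stabilizer G a₀) b) : ℤ) := by
  set F := orb G a₀ b with hF
  have hFi : GInv G F := orb_inv a₀ b
  have hk : (Nat.card (orbit (stabilizer G a₀) b) : ℤ) = C.tot F 0 0 + C.tot F 0 1 := by
    rw [← row_orb, C.row_sum hFi]
  have hs := C.tot_sym hFi
  have h1 : ∑ d, num a₀ C b d = C.tot F 0 0 + C.tot F 1 1 := by
    simp only [num, Finset.sum_add_distrib]
    rfl
  rw [sum_ite_split _ 0 (num_zero a₀ C hb), zero_add, hs.1] at h1
  refine ⟨by rw [h1, hk]; simp only [Coord.sg]; ring, ?_⟩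
  have hsq : ∀ r s, ∑ d, C.blk F r s d ^ 2 = C.tot F r s := fun r s =>
    Finset.sum_congr rfl fun d _ => by
      rcases orb_zero_one a₀ (G := G) b (C.E (0, r)) (C.E (d, s)) with e | e <;>
        simp [Coord.blk, F, e]
  have h2 := C.norm_identity hFi h hd
  rw [hsq, hsq, hsq, hsq, hs.1, hs.2] at h2
  rw [sum_ite_split (fun d => C.hf F d ^ 2) (C.sg F ^ 2) (by rw [hf_orb a₀ C hb, if_pos rfl]; ring)] at h2
  have h3 : ∑ u : (ZMod p)ˣ, C.hf F u ^ 2 = ∑ u : (ZMod p)ˣ, num a₀ C b u ^ 2 :=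
    Finset.sum_congr rfl fun u _ => by rw [hf_orb a₀ C hb, if_neg u.ne_zero]
  rw [h3] at h2
  rw [hk]
  linarith

theorem sum_num {d : ZMod p} (hd : d ≠ 0)
    (R : Finset α) (hR : ∀ y, y ≠ a₀ → ∃! b, b ∈ R ∧ y ∈ orbit (stabilizer G a₀) b) :
    ∑ b ∈ R, num a₀ C b d = 2 := by
  have key : ∀ x y : α, x ≠ y → ∑ b ∈ R, orb G a₀ b x y = 1 := by
    intro x y hxy
    obtain ⟨g, rfl⟩ := exists_smul_eq G a₀ x
    obtain ⟨z, rfl⟩ : ∃ z, (g : Perm α) z = y := ⟨_, (g : Perm α).apply_symm_apply y⟩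
    have hz : z ≠ a₀ := fun e => hxy (by rw [e]; rfl)
    obtain ⟨b, ⟨hbR, hzb⟩, hu⟩ := hR z hz
    show ∑ b ∈ R, orb G a₀ b ((g : Perm α) a₀) ((g : Perm α) z) = 1
    simp only [orb_inv a₀ _ g, orb_apply_a₀]
    rw [Finset.sum_eq_single b, if_pos hzb]
    · exact fun c hc hcb => if_neg fun hzc => hcb (hu c ⟨hc, hzc⟩)
    · exact fun hn => absurd hbR hn
  simp only [num, Finset.sum_add_distrib, Coord.blk]
  have hne : ∀ r : Fin 2, C.E (0, r) ≠ C.E (d, r) := fun r e =>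
    hd (congrArg Prod.fst (C.E.injective e)).symm
  rw [key _ _ (hne 0), key _ _ (hne 1)]
  norm_num

end Cfsg.Agent.TwiceP
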