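import Mathlib.GroupTheory.GroupAction.Jordan
import Mathlib.GroupTheory.Sylow
import Mathlib.GroupTheory.Nilpotent
import Mathlib.Data.ZMod.Basic
import Cfsg.Agent.Lib.FGStruct.JordanCycle

/-!
Primitive groups of degree `2p`: coordinates from an element of order `p`.
-/

set_option autoImplicit false
set_option linter.style.haveILetI false
set_option linter.unusedSectionVars false

namespace Cfsg.Agent.TwiceP

open Equiv MulAction

variable {α : Type*} [Fintype α] [DecidableEq α]

theorem two_trans_of_alt (hn : 4 ≤ Fintype.card α) {G : Subgroup (Perm α)}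
    (h : alternatingGroup α ≤ G) : IsMultiplyPretransitive G α 2 := by
  haveI := alternatingGroup.isMultiplyPretransitive α
  haveI : IsMultiplyPretransitive (alternatingGroup α) α 2 :=
    MulAction.isMultiplyPretransitive_of_le (n := Nat.card α - 2) (by
      rw [Nat.card_eq_fintype_card]; omega) (by simp)
  rw [is_two_pretransitive_iff]
  intro a b c d hab hcd
  obtain ⟨x, h1, h2⟩ := is_two_pretransitive_iff.1 ‹IsMultiplyPretransitive (alternatingGroup α) α 2› hab hcd
  exact ⟨⟨x, h x.2⟩, h1, h2⟩

/-- Coordinates in which an element of order `p` is a translation. -/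
structure Coord (G : Subgroup (Perm α)) (p : ℕ) where
  E : ZMod p × Fin 2 ≃ α
  g : G
  ord : orderOf g = p
  shift : ∀ i r, (g : Perm α) (E (i, r)) = E (i + 1, r)

theorem exists_coord {p : ℕ} [hp : Fact p.Prime] (h2 : p ≠ 2) (hα : Fintype.card α = 2 * p)
    {G : Subgroup (Perm α)} [hG : IsPreprimitive G α] (hnt : ¬ IsMultiplyPretransitive G α 2) :
    Nonempty (Coord G p) ∧ ¬ p ^ 2 ∣ Nat.card G := by
  have hp3 : 3 ≤ p := by
    have := hp.out.two_le
    omega
  have hcycle : ∀ h : G, orderOf h = p → ∀ x, (h : Perm α) x ≠ x := by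
    intro h hh x hx
    apply hnt
    have hord : orderOf (h : Perm α) = p := by rw [Subgroup.orderOf_coe, hh]
    have hlt : (h : Perm α).support.card < 2 * p := by
      rw [← hα]
      exact Finset.card_lt_univ_of_notMem (x := x) (by simp [hx])
    have hc : (h : Perm α).IsCycle :=
      Perm.isCycle_of_prime_order (hord.symm ▸ hp.out) (hord.symm ▸ hlt)
    have hs : (h : Perm α).support.card = p := by rw [← hc.orderOf, hord]
    exact two_trans_of_alt (by omega)
      (JordanCycle.alternatingGroup_le_of_prime_cycle hG hp.out (by omega) hc hs h.2)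
  obtain ⟨x0⟩ : Nonempty α := Fintype.card_pos_iff.1 (by omega)
  have hdvd : p ∣ Nat.card G := by
    refine dvd_trans ?_ (Subgroup.index_dvd_card (stabilizer G x0))
    rw [index_stabilizer_of_transitive G x0, Nat.card_eq_fintype_card, hα]
    exact dvd_mul_left p 2
  obtain ⟨g, hg⟩ := exists_prime_orderOf_dvd_card' p hdvd
  have hpow : ∀ m n : ℕ, (m : ZMod p) = n → g ^ m = g ^ n := fun m n hmn => by
    rw [pow_eq_pow_iff_modEq, hg, ← ZMod.natCast_eq_natCast_iff]
    · exact hmn
  have hfree : ∀ (i j : ZMod p) (x : α), (g ^ i.val) • x = (g ^ j.val) • x → i = j := by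
    intro i j x hij
    by_contra hne
    have hd : (i - j).val ≠ 0 := fun e => hne (sub_eq_zero.1 ((ZMod.val_eq_zero _).1 e))
    have hfix : (g ^ (i - j).val) • ((g ^ j.val) • x) = (g ^ j.val) • x := by
      rw [← mul_smul, ← pow_add, hpow ((i - j).val + j.val) i.val (by
        push_cast [ZMod.natCast_val, ZMod.cast_id]; ring), hij]
    refine hcycle _ ?_ _ hfix
    rw [orderOf_pow, hg, Nat.Coprime.gcd_eq_one, Nat.div_one]
    refine (hp.out.coprime_iff_not_dvd).2 fun hdv => ?_
    exact absurd (Nat.le_of_dvd (Nat.pos_of_ne_zero hd) hdv) (not_le.2 (ZMod.val_lt _))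
  obtain ⟨y, hy⟩ : ∃ y : α, ∀ i : ZMod p, (g ^ i.val) • x0 ≠ y := by
    by_contra hcon
    push Not at hcon
    have := Fintype.card_le_of_surjective (fun i : ZMod p => (g ^ i.val) • x0) hcon
    rw [ZMod.card, hα] at this
    omega
  let f : ZMod p × Fin 2 → α := fun v => (g ^ v.1.val) • (if v.2 = 0 then x0 else y)
  have hfi : Function.Injective f := by
    rintro ⟨i, r⟩ ⟨j, s⟩ h
    simp only [f] at h
    fin_cases r <;> fin_cases s <;> simp at h ⊢
    · exact hfree i j x0 h
    · exfalso
      apply hy (i - j)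
      have e : g ^ i.val = g ^ j.val * g ^ (i - j).val := by
        rw [← pow_add]
        exact hpow _ _ (by push_cast [ZMod.natCast_val, ZMod.cast_id]; ring)
      rw [e, mul_smul] at h
      exact smul_left_cancel _ h
    · exfalso
      apply hy (j - i)
      have e : g ^ j.val = g ^ i.val * g ^ (j - i).val := by
        rw [← pow_add]
        exact hpow _ _ (by push_cast [ZMod.natCast_val, ZMod.cast_id]; ring)
      rw [e, mul_smul] at h
      exact smul_left_cancel _ h.symm
    · exact hfree i j y h
  have hfb : Function.Bijective f :=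
    (Fintype.bijective_iff_injective_and_card f).2 ⟨hfi, by simp [hα, mul_comm]⟩
  refine ⟨⟨⟨Equiv.ofBijective f hfb, g, hg, fun i r => ?_⟩⟩, fun hsq => ?_⟩
  · show g • f (i, r) = f (i + 1, r)
    simp only [f]
    rw [← mul_smul, ← pow_succ', hpow (i.val + 1) (i + 1).val (by
      push_cast [ZMod.natCast_val, ZMod.cast_id]; ring)]
  · obtain ⟨P, hP⟩ := Sylow.exists_subgroup_card_pow_prime p hsq
    have hPg : IsPGroup p P := IsPGroup.of_card hP
    have hstab : ∀ u : P, (u : G) • x0 = x0 → u = 1 := by
      intro u hu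
      by_contra hu1
      obtain ⟨k, hk⟩ := IsPGroup.iff_orderOf.1 hPg u
      cases k with
      | zero => exact hu1 (orderOf_eq_one_iff.1 hk)
      | succ k =>
        refine hcycle ((u : G) ^ (p ^ k)) ?_ x0 ?_
        · rw [orderOf_pow, Subgroup.orderOf_coe, hk, Nat.gcd_eq_right (pow_dvd_pow p (Nat.le_succ k)),
            pow_succ, Nat.mul_div_cancel_left _ (pow_pos hp.out.pos k)]
        · show ((u : G) ^ (p ^ k)) • x0 = x0
          exact mem_stabilizer_iff.1 (pow_mem (mem_stabilizer_iff.2 hu) _)
    have hinj : Function.Injective (fun u : P => (u : G) • x0) := by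
      intro u v huv
      have := hstab (v⁻¹ * u) (by
        simp only at huv
        rw [Subgroup.coe_mul, Subgroup.coe_inv, mul_smul, huv, inv_smul_smul])
      exact (inv_mul_eq_one.1 this).symm
    have := Nat.card_le_card_of_injective _ hinj
    rw [hP, Nat.card_eq_fintype_card, hα, pow_two] at this
    nlinarith

theorem deg_four {G : Subgroup (Perm α)} (hα : Fintype.card α = 4) [hG : IsPreprimitive G α] :
    IsMultiplyPretransitive G α 2 := by
  obtain ⟨x0⟩ : Nonempty α := Fintype.card_pos_iff.1 (by omega)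
  haveI : Nontrivial α := Fintype.one_lt_card_iff_nontrivial.1 (by omega)
  haveI : Fact (Nat.Prime 2) := ⟨Nat.prime_two⟩
  haveI : Fact (Nat.Prime 3) := ⟨Nat.prime_three⟩
  have hidx : (stabilizer G x0).index = 4 := by
    rw [index_stabilizer_of_transitive G x0, Nat.card_eq_fintype_card, hα]
  have h3 : 3 ∣ Nat.card G := by
    by_contra h3
    have hd : Nat.card G ∣ 24 := by
      have := Subgroup.card_subgroup_dvd_card G
      rwa [Nat.card_perm, Nat.card_eq_fintype_card (α := α), hα] at this
    have hd8 : Nat.card G ∣ 2 ^ 3 := by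
      refine Nat.Coprime.dvd_of_dvd_mul_right ?_ (show Nat.card G ∣ 2 ^ 3 * 3 from hd)
      exact (Nat.coprime_comm.1 ((Nat.prime_three.coprime_iff_not_dvd).2 h3))
    have hpg : IsPGroup 2 G := IsPGroup.of_card_dvd_pow hd8
    haveI := IsPGroup.isNilpotent hpg
    have hco := (isCoatom_stabilizer_iff_preprimitive G x0).2 hG
    have hn := Subgroup.NormalizerCondition.normal_of_coatom (stabilizer G x0)
      Group.normalizerCondition_of_isNilpotent hco
    have hq : IsPGroup 2 (G ⧸ stabilizer G x0) := hpg.to_quotient _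
    obtain ⟨u, hu⟩ := exists_prime_orderOf_dvd_card' (G := G ⧸ stabilizer G x0) 2
      (by rw [← Subgroup.index_eq_card, hidx]; norm_num)
    obtain ⟨u', rfl⟩ := QuotientGroup.mk_surjective u
    have hlt : stabilizer G x0 < (Subgroup.zpowers (u' : G ⧸ stabilizer G x0)).comap
        (QuotientGroup.mk' _) := by
      refine lt_of_le_of_ne (fun a ha => ?_) fun e => ?_
      · rw [Subgroup.mem_comap, QuotientGroup.mk'_apply, (QuotientGroup.eq_one_iff a).2 ha]
        exact one_mem _
      · have hu' : u' ∈ stabilizer G x0 := e ▸ Subgroup.mem_zpowers _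
        rw [(QuotientGroup.eq_one_iff u').2 hu', orderOf_one] at hu
        omega
    have htop := hco.2 _ hlt
    have h5 : Subgroup.zpowers (u' : G ⧸ stabilizer G x0) = ⊤ := by
      rw [← Subgroup.map_comap_eq_self_of_surjective (QuotientGroup.mk'_surjective _)
        (Subgroup.zpowers _), htop, Subgroup.map_top_of_surjective _
        (QuotientGroup.mk'_surjective _)]
    have := congrArg (fun H : Subgroup (G ⧸ stabilizer G x0) => Nat.card H) h5
    simp only [Nat.card_zpowers, hu, Subgroup.card_top] at this
    rw [← Subgroup.index_eq_card, hidx] at this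
    omega
  obtain ⟨h, hh⟩ := exists_prime_orderOf_dvd_card' 3 h3
  have hord : orderOf (h : Perm α) = 3 := by rw [Subgroup.orderOf_coe, hh]
  have hlt : (h : Perm α).support.card < 2 * 3 :=
    lt_of_le_of_lt (Finset.card_le_univ _) (by omega)
  have hc : (h : Perm α).IsCycle :=
    Perm.isCycle_of_prime_order (hord.symm ▸ Nat.prime_three) (hord.symm ▸ hlt)
  have hs : (h : Perm α).support.card = 3 := by rw [← hc.orderOf, hord]
  exact two_trans_of_alt (by omega) (Perm.alternatingGroup_le_of_isPreprimitive_of_isThreeCycle_mem hG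
    (card_support_eq_three_iff.1 hs) h.2)

end Cfsg.Agent.TwiceP
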